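import Mathlib

/-!
# The rank of a matrix (helper353, for TEAM PPD, task PPD-Q)

* `rk F` : the rank of `F : α → β → k`, the dimension of the span of the rows;
* `rk_comp`, `rk_comp_le`, `rk_scale`;
* `rk_le_of_factor`, `rk_eq_of_factor` : `F a b = ∑ s, A s a * C s b`.
-/

set_option autoImplicit false
set_option linter.unusedSectionVars false
set_option linter.style.haveILetI false

namespace Cfsg.Agent.H353.Ker

/-! ### the rank of a matrix -/

section rk

variable {k : Type*} [Field k] {α β α' β' : Type*}

/-- the rank of the matrix `F` -/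
noncomputable def rk (F : α → β → k) : ℕ := Module.finrank k (Submodule.span k (Set.range F))

/-- the pullback of functions -/
def pb (k : Type*) [Field k] (f : β' → β) : (β → k) →ₗ[k] (β' → k) where
  toFun φ := φ ∘ f
  map_add' _ _ := rfl
  map_smul' _ _ := rfl

theorem pb_apply (f : β' → β) (φ : β → k) (b : β') : pb k f φ b = φ (f b) := rfl

theorem pb_injective {f : β' → β} (hf : Function.Surjective f) : Function.Injective (pb k f) := by
  intro φ ψ hφ
  funext b
  obtain ⟨b', rfl⟩ := hf b
  exact congrFun hφ b'

/-- doubling rows and columns does not change the rank -/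
theorem rk_comp (F : α → β → k) {a : α' → α} {b : β' → β} (ha : Function.Surjective a)
    (hb : Function.Surjective b) : rk (fun x y => F (a x) (b y)) = rk F := by
  unfold rk
  have e : Set.range (fun x y => F (a x) (b y)) = pb k b '' Set.range F := by
    ext φ
    constructor
    · rintro ⟨x, rfl⟩
      exact ⟨F (a x), ⟨a x, rfl⟩, rfl⟩
    · rintro ⟨_, ⟨x, rfl⟩, rfl⟩
      obtain ⟨x', rfl⟩ := ha x
      exact ⟨x', rfl⟩
  rw [e, Submodule.span_image]
  exact (Submodule.equivMapOfInjective _ (pb_injective hb) _).finrank_eq.symm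

theorem span_range_finite [Finite α] (F : α → β → k) :
    Module.Finite k (Submodule.span k (Set.range F)) :=
  FiniteDimensional.span_of_finite k (Set.finite_range F)

/-- a submatrix has smaller rank -/
theorem rk_comp_le [Finite α] (F : α → β → k) (a : α' → α) (b : β' → β) :
    rk (fun x y => F (a x) (b y)) ≤ rk F := by
  unfold rk
  have := span_range_finite F
  have e : Submodule.span k (Set.range (fun x y => F (a x) (b y))) ≤
      (Submodule.span k (Set.range F)).map (pb k b) := by
    rw [Submodule.span_le]
    rintro _ ⟨x, rfl⟩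
    exact ⟨F (a x), Submodule.subset_span ⟨a x, rfl⟩, rfl⟩
  exact (Submodule.finrank_mono e).trans (Submodule.finrank_map_le _ _)

/-- multiplying the columns by nonzero numbers -/
def sc (s : β → k) : (β → k) →ₗ[k] (β → k) where
  toFun φ b := s b * φ b
  map_add' φ ψ := by funext b; exact mul_add _ _ _
  map_smul' a φ := by funext b; exact mul_left_comm _ _ _

/-- multiplying rows and columns by nonzero numbers does not change the rank -/
theorem rk_scale (F : α → β → k) {r : α → k} {s : β → k} (hr : ∀ a, r a ≠ 0) (hs : ∀ b, s b ≠ 0) :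
    rk (fun a b => r a * (s b * F a b)) = rk F := by
  unfold rk
  have hinj : Function.Injective (sc s) := by
    intro φ ψ hφ
    funext b
    exact mul_left_cancel₀ (hs b) (congrFun hφ b)
  have e : Submodule.span k (Set.range (fun a b => r a * (s b * F a b))) =
      (Submodule.span k (Set.range F)).map (sc s) := by
    rw [← Submodule.span_image]
    apply le_antisymm
    · rw [Submodule.span_le]
      rintro _ ⟨a, rfl⟩
      exact Submodule.smul_mem _ (r a) (Submodule.subset_span ⟨F a, ⟨a, rfl⟩, rfl⟩)
    · rw [Submodule.span_le]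
      rintro _ ⟨_, ⟨a, rfl⟩, rfl⟩
      have h1 : sc s (F a) = (r a)⁻¹ • (fun b => r a * (s b * F a b)) := by
        funext b
        rw [Pi.smul_apply, smul_eq_mul, inv_mul_cancel_left₀ (hr a)]
        rfl
      rw [SetLike.mem_coe, h1]
      exact Submodule.smul_mem _ _ (Submodule.subset_span ⟨a, rfl⟩)
  rw [e]
  exact (Submodule.equivMapOfInjective _ hinj _).finrank_eq.symm

/-- multiplying by a nonzero number does not change the rank -/
theorem rk_smul (F : α → β → k) {c : k} (hc : c ≠ 0) : rk (fun a b => c * F a b) = rk F := by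
  have := rk_scale F (r := fun _ => c) (s := fun _ => 1) (fun _ => hc) (fun _ => one_ne_zero)
  simpa only [one_mul] using this

end rk

section factor

variable {k : Type*} [Field k] {α β ι : Type*} [Fintype ι]

/-- the map `c ↦ ∑ s, c s • C s` -/
def comb (C : ι → β → k) : (ι → k) →ₗ[k] (β → k) where
  toFun c b := ∑ s, c s * C s b
  map_add' c d := by
    funext b
    simp only [Pi.add_apply, add_mul, Finset.sum_add_distrib]
  map_smul' a c := by
    funext b
    simp only [Pi.smul_apply, smul_eq_mul, RingHom.id_apply, Finset.mul_sum, mul_assoc]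

theorem span_range_eq (F : α → β → k) (A : ι → α → k) (C : ι → β → k)
    (h : ∀ a b, F a b = ∑ s, A s a * C s b) :
    Submodule.span k (Set.range F) = (Submodule.span k (Set.range fun a s => A s a)).map (comb C) := by
  rw [← Submodule.span_image, ← Set.range_comp]
  congr 2
  funext a b
  exact h a b

theorem rk_le_of_factor (F : α → β → k) (A : ι → α → k) (C : ι → β → k)
    (h : ∀ a b, F a b = ∑ s, A s a * C s b) : rk F ≤ Fintype.card ι := by
  unfold rk
  rw [span_range_eq F A C h]
  refine (Submodule.finrank_map_le _ _).trans ((Submodule.finrank_le _).trans ?_)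
  rw [Module.finrank_fintype_fun_eq_card]

theorem span_top_of_indep {A : ι → α → k} (hA : ∀ c : ι → k, (∀ a, ∑ s, c s * A s a = 0) → c = 0) :
    Submodule.span k (Set.range fun (a : α) (s : ι) => A s a) = ⊤ := by
  classical
  by_contra hne
  obtain ⟨φ, hφ0, hφ⟩ := Submodule.exists_le_ker_of_lt_top _ (lt_top_iff_ne_top.2 hne)
  apply hφ0
  have key : ∀ v : ι → k, φ v = ∑ s, φ (Pi.single s 1) * v s := by
    intro v
    conv_lhs => rw [← Finset.univ_sum_single v]
    rw [map_sum]
    refine Finset.sum_congr rfl fun s _ => ?_
    have : Pi.single s (v s) = v s • (Pi.single s 1 : ι → k) := by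
      rw [← Pi.single_smul, smul_eq_mul, mul_one]
    rw [this, map_smul, smul_eq_mul, mul_comm]
  have h1 := hA (fun s => φ (Pi.single s 1)) fun a => by
    rw [← key]
    exact hφ (Submodule.subset_span ⟨a, rfl⟩)
  refine LinearMap.ext fun v => ?_
  rw [key]
  simp only [LinearMap.zero_apply]
  refine Finset.sum_eq_zero fun s _ => ?_
  rw [congrFun h1 s, Pi.zero_apply, zero_mul]

theorem rk_eq_of_factor (F : α → β → k) (A : ι → α → k) (C : ι → β → k)
    (h : ∀ a b, F a b = ∑ s, A s a * C s b)
    (hA : ∀ c : ι → k, (∀ a, ∑ s, c s * A s a = 0) → c = 0)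
    (hC : ∀ c : ι → k, (∀ b, ∑ s, c s * C s b = 0) → c = 0) : rk F = Fintype.card ι := by
  have hinj : Function.Injective (comb C) := by
    rw [injective_iff_map_eq_zero]
    intro c hc
    exact hC c fun b => congrFun hc b
  unfold rk
  rw [span_range_eq F A C h, span_top_of_indep hA,
    (Submodule.equivMapOfInjective _ hinj _).finrank_eq.symm, finrank_top,
    Module.finrank_fintype_fun_eq_card]

end factor

end Cfsg.Agent.H353.Ker
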