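import Cfsg.Agent.H905.MdB
import Cfsg.Agent.H353.Ker.Rank

/-!
# The kernel of a simple module in the defining characteristic (helper353, for TEAM PPD, task PPD-Q (4))

`R : RGD cs h p T n X`, `ρ` simple over `k`, `v₀ ∈ V^U`, `φ₀` fixed by `U⁻`, `φ₀ v₀ = 1`.

* `exists_birkhoff` : `GG = ⋃ U⁻ N U`;
* `rk F` (Ker/Rank) : the rank of the matrix `F : α → β → k`;
* `finrank_eq_rk` : `dim V` is the rank of `(φ₀ (g⁻¹ h v₀))`;
* `pair_eq_pow` : if `M` is a second module, over `K`, with `m₀`, `μ₀`, of the same type `J`, and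
  `χ = σ(ψ)^c`, then `φ₀ (g v₀) = σ (μ₀ (g m₀)) ^ c`;
* **`finrank_eq_rank_of_pow`** : `dim V` is the rank of the matrix `(σ (y x) ^ c)`, `x` in the orbit of `m₀` and `y`
  in the orbit of `μ₀`.
-/

set_option autoImplicit false
set_option linter.unusedSectionVars false
set_option linter.style.haveILetI false

namespace Cfsg.Agent.H353.Ker

open CoxeterSystem Cfsg.Agent.ChevalleyStructure.CoxeterGeom Cfsg.Agent.Tits.Roots Cfsg.Agent.Tits.Core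
  Cfsg.Agent.Tits.Exchange Cfsg.Agent.Nodes.Reps Cfsg.Agent.Nodes.BNOf Cfsg.Agent.Nodes.StabComb
  Cfsg.Agent.Nodes.Bruhat Cfsg.Agent.Nodes.OppDec Cfsg.Agent.Nodes.LeviDec Cfsg.Agent.KFacts.RgdOpp
  Cfsg.Agent.Omega.CR Cfsg.Agent.Omega.FOne.Lift.Sd Cfsg.Agent.H905.Md

variable {I W Y : Type*} [Fintype I] [DecidableEq I] [Group W] [Group Y] {M : CoxeterMatrix I}
  {cs : CoxeterSystem M W} {A : I → I → ℤ} {h : IsCartan M A} {p : ℕ} {T : Subgroup Y} {n : I → Y}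
  {X : (I → ℤ) → Subgroup Y}

/-! ### the decomposition -/

/-- **Birkhoff decomposition** -/
theorem exists_birkhoff (R : RGD cs h p T n X) [Finite W] {g : Y} (hg : g ∈ GG cs h T X) :
    ∃ a ∈ UN cs h X, ∃ (w : W) (x : Y), Rp cs R.nsys w x ∧ ∃ b ∈ RGD.Sup X (RGD.Pos cs h), g = a * x * b := by
  obtain ⟨c, hc⟩ := exists_rp cs R.nsys (w0 cs)
  have hc' : Rp cs R.nsys (w0 cs) c⁻¹ := by
    have := hc.inv
    rwa [w0_inv] at this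
  have hcG : c ∈ GG cs h T X := NN_le_GG R ⟨_, hc⟩
  obtain ⟨w, b₁, hb₁, x, hx, b₂, hb₂, e⟩ := (mem_GG R).1 (mul_mem hcG hg)
  have h1 : c⁻¹ * b₁ * c ∈ BN cs h T X := by
    have h2 : c⁻¹ * b₁ * (c⁻¹)⁻¹ ∈ cj c⁻¹ (RGD.B cs h T X) := conj_mem_cj.2 hb₁
    rwa [cj_B R hc', inv_inv] at h2
  have h2 : (c⁻¹ * b₁ * c)⁻¹ ∈ RGD.B cs h T (fun x => X (-x)) := by
    rw [B_opp]
    exact inv_mem h1
  obtain ⟨t, ht, a, ha, e2⟩ := (opp R).mem_B.1 h2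
  rw [U_opp] at ha
  obtain ⟨t₂, ht₂, u, hu, rfl⟩ := R.mem_B.1 hb₂
  refine ⟨a⁻¹, inv_mem ha, w0 cs * w, t⁻¹ * (c⁻¹ * x) * t₂, ?_, u, hu, ?_⟩
  · have h3 := ((rp_of_mem (cs := cs) (hN := R.nsys) (inv_mem ht)).mul (hc'.mul hx)).mul_mem_right ht₂
    rwa [one_mul] at h3
  · have h4 : c⁻¹ * b₁ * c = a⁻¹ * t⁻¹ := by
      rw [← inv_inv (c⁻¹ * b₁ * c), e2, mul_inv_rev]
    calc g = c⁻¹ * (c * g) := by group
      _ = (c⁻¹ * b₁ * c) * (c⁻¹ * x) * (t₂ * u) := by rw [e]; group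
      _ = a⁻¹ * (t⁻¹ * (c⁻¹ * x) * t₂) * u := by rw [h4]; group

section

variable {k V : Type*} [Field k] [AddCommGroup V] [Module k V]

/-- the subgroup fixing a vector -/
def stab (ρ : Y →* Module.End k V) (v : V) : Subgroup Y where
  carrier := {g | ρ g v = v}
  one_mem' := rho_one ρ _
  mul_mem' := by
    intro a b (ha : ρ a _ = _) (hb : ρ b _ = _)
    change ρ (a * b) _ = _
    rw [rho_mul, hb, ha]
  inv_mem' := by
    intro a (ha : ρ a _ = _)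
    change ρ a⁻¹ _ = _
    conv_lhs => rw [← ha]
    exact rho_inv_rho ρ a _

theorem mem_stab {ρ : Y →* Module.End k V} {v : V} {g : Y} : g ∈ stab ρ v ↔ ρ g v = v := Iff.rfl

/-- representatives for `W_J` in a subgroup containing the `X_{± α_j}`, `j ∈ J` -/
theorem exists_rp_mem (R : RGD cs h p T n X) {J : Set I} {w : W} (hw : w ∈ WJ cs J) (L : Subgroup Y)
    (h1 : ∀ j ∈ J, X (sr j) ≤ L) (h2 : ∀ j ∈ J, X (-sr j) ≤ L) : ∃ l ∈ L, Rp cs R.nsys w l := by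
  obtain ⟨ω, hω, rfl⟩ := exists_word_of_mem_WJ cs hw
  clear hw
  induction ω with
  | nil => exact ⟨1, one_mem _, by rw [wordProd_nil]; exact rp_one⟩
  | cons i ω ih =>
    obtain ⟨l, hl, hr⟩ := ih fun j hj => hω j (by simp [hj])
    have hi : i ∈ J := hω i (by simp)
    obtain ⟨u, hu, hu1⟩ := (X (-sr i)).bot_or_exists_ne_one.resolve_left (X_ne_bot R (isRoot_sr cs h i).neg)
    obtain ⟨a, ha, t, ht, b, hb, e⟩ := R.rk1 i u hu hu1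
    refine ⟨(a⁻¹ * u * b⁻¹) * l, mul_mem (mul_mem (mul_mem (h1 i hi (inv_mem ha)) (h2 i hi hu))
      (h1 i hi (inv_mem hb))) hl, ?_⟩
    rw [wordProd_cons]
    refine Rp.mul ?_ hr
    have e2 : a⁻¹ * u * b⁻¹ = t * n i := by rw [e]; group
    rw [e2]
    have h3 := (rp_of_mem (cs := cs) (hN := R.nsys) ht).mul (rp_simple cs R.nsys i)
    rwa [one_mul] at h3

end

/-! ### the kernel -/

section ker

variable {k V : Type*} [Field k] [AddCommGroup V] [Module k V]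

variable (R : RGD cs h p T n X) [Finite Y] [Finite W] [Fact p.Prime] [CharP k p]
  {ρ : Y →* Module.End k V} [FiniteDimensional k V]
  (hirr : ∀ L : Submodule k V, Ivt ρ (GG cs h T X) L → L = ⊥ ∨ L = ⊤)

/-- the span of the orbit -/
theorem span_orbit {G : Subgroup Y} (hirr : ∀ L : Submodule k V, Ivt ρ G L → L = ⊥ ∨ L = ⊤) {v : V}
    (hv : v ≠ 0) : Submodule.span k (Set.range fun g : G => ρ g v) = ⊤ := by
  refine (hirr _ ?_).resolve_left ?_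
  · intro g hg w hw
    induction hw using Submodule.span_induction with
    | mem x hx =>
      obtain ⟨g', rfl⟩ := hx
      simp only
      rw [← rho_mul]
      exact Submodule.subset_span ⟨⟨g, hg⟩ * g', rfl⟩
    | zero => rw [map_zero]; exact zero_mem _
    | add x y _ _ hx hy => rw [map_add]; exact add_mem hx hy
    | smul a x _ hx => rw [map_smul]; exact Submodule.smul_mem _ _ hx
  · intro h0
    apply hv
    have h1 : v ∈ Submodule.span k (Set.range fun g : G => ρ g v) :=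
      Submodule.subset_span ⟨1, rho_one ρ v⟩
    rwa [h0, Submodule.mem_bot] at h1

/-- the dimension of a simple module is the rank of the matrix of a matrix coefficient -/
theorem finrank_eq_rk {G : Subgroup Y} (hirr : ∀ L : Submodule k V, Ivt ρ G L → L = ⊥ ∨ L = ⊤) {v : V}
    (hv : v ≠ 0) {φ : Module.Dual k V} (hφ : φ ≠ 0) :
    Module.finrank k V = rk (fun (g g' : G) => φ (ρ ((g : Y)⁻¹ * g') v)) := by
  let Φ : Module.Dual k V →ₗ[k] (G → k) :=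
    { toFun := fun ψ g => ψ (ρ g v)
      map_add' := fun _ _ => rfl
      map_smul' := fun _ _ => rfl }
  have hΦ : Function.Injective Φ := by
    rw [injective_iff_map_eq_zero]
    intro ψ hψ
    have h1 : Submodule.span k (Set.range fun g : G => ρ g v) ≤ LinearMap.ker ψ := by
      rw [Submodule.span_le]
      rintro _ ⟨g, rfl⟩
      exact congrFun hψ g
    rw [span_orbit hirr hv, top_le_iff, LinearMap.ker_eq_top] at h1
    exact h1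
  have h2 := span_orbit (ρ := dualRep ρ) (dual_irr ρ hirr) hφ
  have h3 : Submodule.span k (Set.range fun (g g' : G) => φ (ρ ((g : Y)⁻¹ * g') v)) = LinearMap.range Φ := by
    have e : (Set.range fun (g g' : G) => φ (ρ ((g : Y)⁻¹ * g') v)) =
        Φ '' (Set.range fun g : G => dualRep ρ g φ) := by
      rw [← Set.range_comp]
      congr 1
      funext g g'
      show φ (ρ ((g : Y)⁻¹ * g') v) = (dualRep ρ g φ) (ρ g' v)
      rw [dualRep_apply, rho_mul]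
    rw [e, Submodule.span_image, h2, LinearMap.range_eq_map]
  unfold rk
  rw [h3, LinearMap.finrank_range_of_inj hΦ, Subspace.dual_finrank_eq]

include R

variable {K N : Type*} [Field K] [AddCommGroup N] [Module K N] {μ : Y →* Module.End K N}

/-- **The kernel.** General form: `N` need not be simple. -/
theorem pair_eq_pow' {J : Set I} {v₀ : V} {φ₀ : Module.Dual k V} (hv : v₀ ∈ D cs h X ρ)
    (hφ : φ₀ ∈ fx (dualRep ρ) (UN cs h X)) (h1 : φ₀ v₀ = 1)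
    (hJv : ∀ j ∈ J, ∀ x ∈ X (-sr j), ρ x v₀ = v₀)
    (hkv : ∀ (w : W) (g : Y), Rp cs R.nsys w g → w ∉ WJ cs J → φ₀ (ρ g v₀) = 0)
    {m₀ : N} {μ₀ : Module.Dual K N} (hm : m₀ ∈ D cs h X μ)
    (hμ : μ₀ ∈ fx (dualRep μ) (UN cs h X)) (h2 : μ₀ m₀ = 1)
    (hJm : ∀ j ∈ J, ∀ x ∈ X (-sr j), μ x m₀ = m₀)
    (hkm : ∀ (w : W) (g : Y), Rp cs R.nsys w g → w ∉ WJ cs J → μ₀ (μ g m₀) = 0)
    {χ : Y → k} {ψ : Y → K} (hχ : ∀ t ∈ T, ρ t v₀ = χ t • v₀) (hψ : ∀ t ∈ T, μ t m₀ = ψ t • m₀)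
    (σ : K →+* k) {c : ℕ} (hc : c ≠ 0) (hχψ : ∀ t ∈ T, χ t = σ (ψ t) ^ c) {g : Y}
    (hg : g ∈ GG cs h T X) : φ₀ (ρ g v₀) = σ (μ₀ (μ g m₀)) ^ c := by
  obtain ⟨a, ha, w, x, hx, b, hb, rfl⟩ := exists_birkhoff R hg
  have e1 : φ₀ (ρ (a * x * b) v₀) = φ₀ (ρ x v₀) := by
    rw [rho_mul, hv b hb, rho_mul, (mem_fx_dual ρ).1 hφ a ha]
  have e2 : μ₀ (μ (a * x * b) m₀) = μ₀ (μ x m₀) := by
    rw [rho_mul, hm b hb, rho_mul, (mem_fx_dual μ).1 hμ a ha]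
  rw [e1, e2]
  by_cases hw : w ∈ WJ cs J
  · obtain ⟨l, hl, hrl⟩ := exists_rp_mem R hw (stab ρ v₀ ⊓ stab μ m₀)
      (fun j _ y hy => ⟨X_fix R ρ hv j hy, X_fix R μ hm j hy⟩)
      (fun j hj y hy => ⟨hJv j hj y hy, hJm j hj y hy⟩)
    have ht := hx.inv.unique hrl.inv
    rw [inv_inv] at ht
    -- `x = (x l⁻¹) l`
    obtain ⟨t, rfl⟩ : ∃ t, x = t * l := ⟨x * l⁻¹, by group⟩
    rw [mul_inv_cancel_right] at ht
    rw [rho_mul, rho_mul, (mem_stab.1 hl.1), (mem_stab.1 hl.2), hχ _ ht, hψ _ ht, map_smul,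
      map_smul, h1, h2, smul_eq_mul, smul_eq_mul, mul_one, mul_one]
    exact hχψ _ ht
  · rw [hkv w x hx hw, hkm w x hx hw, map_zero, zero_pow hc]

/-- **`dim V` is the rank of the matrix `(σ (y x) ^ c)`.** General form. -/
theorem finrank_eq_rank_of_pow' (hirr : ∀ L : Submodule k V, Ivt ρ (GG cs h T X) L → L = ⊥ ∨ L = ⊤)
    {J : Set I} {v₀ : V} {φ₀ : Module.Dual k V} (hv : v₀ ∈ D cs h X ρ)
    (hφ : φ₀ ∈ fx (dualRep ρ) (UN cs h X)) (h1 : φ₀ v₀ = 1)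
    (hJv : ∀ j ∈ J, ∀ x ∈ X (-sr j), ρ x v₀ = v₀)
    (hkv : ∀ (w : W) (g : Y), Rp cs R.nsys w g → w ∉ WJ cs J → φ₀ (ρ g v₀) = 0)
    {m₀ : N} {μ₀ : Module.Dual K N} (hm : m₀ ∈ D cs h X μ)
    (hμ : μ₀ ∈ fx (dualRep μ) (UN cs h X)) (h2 : μ₀ m₀ = 1)
    (hJm : ∀ j ∈ J, ∀ x ∈ X (-sr j), μ x m₀ = m₀)
    (hkm : ∀ (w : W) (g : Y), Rp cs R.nsys w g → w ∉ WJ cs J → μ₀ (μ g m₀) = 0)
    {χ : Y → k} {ψ : Y → K} (hχ : ∀ t ∈ T, ρ t v₀ = χ t • v₀) (hψ : ∀ t ∈ T, μ t m₀ = ψ t • m₀)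
    (σ : K →+* k) {c : ℕ} (hc : c ≠ 0) (hχψ : ∀ t ∈ T, χ t = σ (ψ t) ^ c)
    (S : Set N) (hS : ∀ x, x ∈ S ↔ ∃ g ∈ GG cs h T X, μ g m₀ = x)
    (S' : Set (Module.Dual K N)) (hS' : ∀ y, y ∈ S' ↔ ∃ g ∈ GG cs h T X, dualRep μ g μ₀ = y) :
    Module.finrank k V = rk (fun (y : S') (x : S) => σ ((y : Module.Dual K N) (x : N)) ^ c) := by
  have hv0 : v₀ ≠ 0 := by
    rintro rfl
    rw [map_zero] at h1
    exact one_ne_zero h1.symm
  have hφ0 : φ₀ ≠ 0 := by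
    rintro rfl
    exact one_ne_zero h1.symm
  rw [finrank_eq_rk hirr hv0 hφ0]
  have e : (fun (g g' : GG cs h T X) => φ₀ (ρ ((g : Y)⁻¹ * g') v₀)) = fun (g g' : GG cs h T X) =>
      (fun (y : S') (x : S) => σ ((y : Module.Dual K N) (x : N)) ^ c)
        ⟨dualRep μ g μ₀, (hS' _).2 ⟨g, g.2, rfl⟩⟩ ⟨μ g' m₀, (hS _).2 ⟨g', g'.2, rfl⟩⟩ := by
    funext g g'
    rw [pair_eq_pow' R hv hφ h1 hJv hkv hm hμ h2 hJm hkm hχ hψ σ hc hχψ (mul_mem (inv_mem g.2) g'.2)]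
    simp only
    rw [dualRep_apply, rho_mul]
  rw [e]
  refine rk_comp (fun (y : S') (x : S) => σ ((y : Module.Dual K N) (x : N)) ^ c)
    (a := fun g : GG cs h T X => (⟨dualRep μ g μ₀, (hS' _).2 ⟨g, g.2, rfl⟩⟩ : S'))
    (b := fun g' : GG cs h T X => (⟨μ g' m₀, (hS _).2 ⟨g', g'.2, rfl⟩⟩ : S)) ?_ ?_
  · rintro ⟨y, hy⟩
    obtain ⟨g, hg, rfl⟩ := (hS' y).1 hy
    exact ⟨⟨g, hg⟩, rfl⟩
  · rintro ⟨x, hx⟩
    obtain ⟨g, hg, rfl⟩ := (hS x).1 hx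
    exact ⟨⟨g, hg⟩, rfl⟩

/-! ### two simple modules -/

variable [CharP K p] [FiniteDimensional K N]

omit [CharP K p] in
/-- a nonzero functional fixed by `U⁻` does not vanish on `V^U` -/
theorem pair_ne_zero [Nontrivial V] (hirr : ∀ L : Submodule k V, Ivt ρ (GG cs h T X) L → L = ⊥ ∨ L = ⊤)
    {v₀ : V} (hv : v₀ ∈ D cs h X ρ) (hv0 : v₀ ≠ 0) {χ : Y → k} (hχ : ∀ t ∈ T, ρ t v₀ = χ t • v₀)
    {φ₀ : Module.Dual k V} (hφ : φ₀ ∈ fx (dualRep ρ) (UN cs h X)) (hφ0 : φ₀ ≠ 0) : φ₀ v₀ ≠ 0 := by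
  intro h0
  have hs := simp_fx (opp R) (dualRep ρ) (hirr_opp R hirr)
  rw [U_opp] at hs
  -- the functionals vanishing at `v₀`
  let L : Submodule k (Module.Dual k V) :=
    fx (dualRep ρ) (UN cs h X) ⊓ LinearMap.ker (Module.Dual.eval k V v₀)
  have hL : Ivt (dualRep ρ) T L := by
    intro t ht φ hφ'
    refine ⟨hs.inv t ht φ hφ'.1, ?_⟩
    have h1 : φ v₀ = 0 := hφ'.2
    change (dualRep ρ t φ) v₀ = 0
    rw [dualRep_apply, hχ _ (inv_mem ht), map_smul, h1, smul_zero]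
  rcases hs.simple L inf_le_left hL with h1 | h1
  · have h2 : φ₀ ∈ L := ⟨hφ, h0⟩
    rw [h1, Submodule.mem_bot] at h2
    exact hφ0 h2
  · obtain ⟨φ, hφ1, hφ2⟩ := exists_pair_D R hirr hv hv0
    rw [← h1] at hφ1
    exact hφ2 hφ1.2

/-- **`dim V` is the rank of the matrix `(σ (y x) ^ c)`**, `x` in the orbit of `m₀`, `y` in the orbit of `μ₀`:
two simple modules of the same type `J`, the torus acts on `V^U` by `χ = σ(ψ)^c`. -/
theorem finrank_eq_rank_of_pow [Nontrivial V] [Nontrivial N]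
    (hirr : ∀ L : Submodule k V, Ivt ρ (GG cs h T X) L → L = ⊥ ∨ L = ⊤)
    (hirrN : ∀ L : Submodule K N, Ivt μ (GG cs h T X) L → L = ⊥ ∨ L = ⊤)
    {v₀ : V} (hv : v₀ ∈ D cs h X ρ) (hv0 : v₀ ≠ 0) {m₀ : N} (hm : m₀ ∈ D cs h X μ) (hm0 : m₀ ≠ 0)
    {μ₀ : Module.Dual K N} (hμ : μ₀ ∈ fx (dualRep μ) (UN cs h X)) (hμ0 : μ₀ ≠ 0)
    (hJ : Jx cs h X ρ = Jx cs h X μ)
    {χ : Y → k} {ψ : Y → K} (hχ : ∀ t ∈ T, ρ t v₀ = χ t • v₀) (hψ : ∀ t ∈ T, μ t m₀ = ψ t • m₀)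
    (σ : K →+* k) {c : ℕ} (hc : c ≠ 0) (hχψ : ∀ t ∈ T, χ t = σ (ψ t) ^ c)
    (S : Set N) (hS : ∀ x, x ∈ S ↔ ∃ g ∈ GG cs h T X, μ g m₀ = x)
    (S' : Set (Module.Dual K N)) (hS' : ∀ y, y ∈ S' ↔ ∃ g ∈ GG cs h T X, dualRep μ g μ₀ = y) :
    Module.finrank k V = rk (fun (y : S') (x : S) => σ ((y : Module.Dual K N) (x : N)) ^ c) := by
  obtain ⟨φ, hφ, hφ0⟩ := exists_pair_D R hirr hv hv0
  have hne := pair_ne_zero R (ρ := μ) hirrN hm hm0 hψ hμ hμ0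
  -- normalise
  have hφ' : (φ v₀)⁻¹ • φ ∈ fx (dualRep ρ) (UN cs h X) := Submodule.smul_mem _ _ hφ
  have hμ' : (μ₀ m₀)⁻¹ • μ₀ ∈ fx (dualRep μ) (UN cs h X) := Submodule.smul_mem _ _ hμ
  have hφ1 : ((φ v₀)⁻¹ • φ) v₀ = 1 := by
    rw [LinearMap.smul_apply, smul_eq_mul, inv_mul_cancel₀ hφ0]
  have hμ1 : ((μ₀ m₀)⁻¹ • μ₀) m₀ = 1 := by
    rw [LinearMap.smul_apply, smul_eq_mul, inv_mul_cancel₀ hne]
  have key := finrank_eq_rank_of_pow' R hirr hv hφ' hφ1 (J := Jx cs h X ρ)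
    (fun j hj x hx => hj x hx v₀ hv)
    (fun w g hg hw => by
      by_contra hcon
      exact hw (mem_WJ_of_pair R hirr hφ' hg hv hcon)) hm hμ' hμ1
    (fun j hj x hx => by
      rw [hJ] at hj
      exact hj x hx m₀ hm)
    (fun w g hg hw => by
      by_contra hcon
      rw [hJ] at hw
      exact hw (mem_WJ_of_pair R hirrN hμ' hg hm hcon)) hχ hψ σ hc hχψ S hS
    {y | ∃ g ∈ GG cs h T X, dualRep μ g ((μ₀ m₀)⁻¹ • μ₀) = y} (fun _ => Iff.rfl)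
  rw [key]
  -- the scaling
  rw [← rk_smul (fun (y : S') (x : S) => σ ((y : Module.Dual K N) (x : N)) ^ c)
    (c := σ ((μ₀ m₀)⁻¹) ^ c) (pow_ne_zero _ ((map_ne_zero σ).2 (inv_ne_zero hne)))]
  let f : S' → {y | ∃ g ∈ GG cs h T X, dualRep μ g ((μ₀ m₀)⁻¹ • μ₀) = y} := fun y =>
    ⟨(μ₀ m₀)⁻¹ • (y : Module.Dual K N), by
      obtain ⟨g, hg, e⟩ := (hS' y).1 y.2
      exact ⟨g, hg, by rw [map_smul, e]⟩⟩
  have hf : Function.Surjective f := by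
    rintro ⟨y, g, hg, e⟩
    refine ⟨⟨dualRep μ g μ₀, (hS' _).2 ⟨g, hg, rfl⟩⟩, Subtype.ext ?_⟩
    show (μ₀ m₀)⁻¹ • (dualRep μ g μ₀) = y
    rw [← e, map_smul]
  rw [← rk_comp _ hf (Function.surjective_id (α := S))]
  congr 1
  funext y x
  show σ (((μ₀ m₀)⁻¹ • (y : Module.Dual K N)) (x : N)) ^ c = _
  rw [LinearMap.smul_apply, smul_eq_mul, map_mul, mul_pow]

/-- **The lower bound.** `x` runs over vectors, `y` over functionals in the orbits of the lines of `m₀`, `μ₀`. -/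
theorem le_finrank_of_pow [Nontrivial V] [Nontrivial N]
    (hirr : ∀ L : Submodule k V, Ivt ρ (GG cs h T X) L → L = ⊥ ∨ L = ⊤)
    (hirrN : ∀ L : Submodule K N, Ivt μ (GG cs h T X) L → L = ⊥ ∨ L = ⊤)
    {v₀ : V} (hv : v₀ ∈ D cs h X ρ) (hv0 : v₀ ≠ 0) {m₀ : N} (hm : m₀ ∈ D cs h X μ) (hm0 : m₀ ≠ 0)
    {μ₀ : Module.Dual K N} (hμ : μ₀ ∈ fx (dualRep μ) (UN cs h X)) (hμ0 : μ₀ ≠ 0)
    (hJ : Jx cs h X ρ = Jx cs h X μ)
    {χ : Y → k} {ψ : Y → K} (hχ : ∀ t ∈ T, ρ t v₀ = χ t • v₀) (hψ : ∀ t ∈ T, μ t m₀ = ψ t • m₀)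
    (σ : K →+* k) {c : ℕ} (hc : c ≠ 0) (hχψ : ∀ t ∈ T, χ t = σ (ψ t) ^ c)
    {α β : Type*} (x : β → N) (hx : ∀ b, ∃ g ∈ GG cs h T X, ∃ a : K, a ≠ 0 ∧ μ g m₀ = a • x b)
    (y : α → Module.Dual K N) (hy : ∀ b, ∃ g ∈ GG cs h T X, ∃ a : K, a ≠ 0 ∧ dualRep μ g μ₀ = a • y b) :
    rk (fun (i : α) (j : β) => σ ((y i) (x j)) ^ c) ≤ Module.finrank k V := by
  rw [finrank_eq_rank_of_pow R hirr hirrN hv hv0 hm hm0 hμ hμ0 hJ hχ hψ σ hc hχψ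
    {x | ∃ g ∈ GG cs h T X, μ g m₀ = x} (fun _ => Iff.rfl)
    {y | ∃ g ∈ GG cs h T X, dualRep μ g μ₀ = y} (fun _ => Iff.rfl)]
  choose gx hgx ax hax hx' using hx
  choose gy hgy ay hay hy' using hy
  have hfin : Finite ({y | ∃ g ∈ GG cs h T X, dualRep μ g μ₀ = y} : Set (Module.Dual K N)) := by
    refine Set.Finite.subset (Set.finite_range fun g : Y => dualRep μ g μ₀) ?_
    rintro _ ⟨g, -, rfl⟩
    exact ⟨g, rfl⟩
  refine le_trans (le_of_eq ?_) (rk_comp_le (fun (y : ({y | ∃ g ∈ GG cs h T X, dualRep μ g μ₀ = y} :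
    Set (Module.Dual K N))) (x : ({x | ∃ g ∈ GG cs h T X, μ g m₀ = x} : Set N)) =>
      σ ((y : Module.Dual K N) (x : N)) ^ c) (fun i : α => ⟨dualRep μ (gy i) μ₀, gy i, hgy i, rfl⟩)
      (fun j : β => ⟨μ (gx j) m₀, gx j, hgx j, rfl⟩))
  rw [← rk_scale (fun (i : α) (j : β) => σ ((y i) (x j)) ^ c) (r := fun i => σ (ay i) ^ c)
    (s := fun j => σ (ax j) ^ c) (fun i => pow_ne_zero _ ((map_ne_zero σ).2 (hay i)))
    (fun j => pow_ne_zero _ ((map_ne_zero σ).2 (hax j)))]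
  congr 1
  funext i j
  simp only
  rw [hy' i, hx' j, LinearMap.smul_apply, (y i).map_smul, smul_eq_mul, smul_eq_mul, map_mul, map_mul, mul_pow,
    mul_pow]

end ker

end Cfsg.Agent.H353.Ker
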