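import Cfsg.Agent.H353.Ker.Cone
import Cfsg.Prelude.Def_GeometricClasses

/-!
# Powers of a form on its singular vectors (helper353, for TEAM PPD, task PPD-Q (2), (3))

* `Pol p j Sg B` : a polarity (quadratic, hermitian), `Sg` the singular vectors; `Pol.cone`, `Pol.rk_eq`;
* **`rk_quad`** : `Q` a nondegenerate quadratic form with a totally singular plane, over a field with `p ^ e`
  elements: the matrix `(σ (B x y) ^ ∑ t ∈ T, p ^ t)`, `x`, `y` singular, `T ⊆ {0, …, e - 1}`, has rank `(dim M) ^ |T|`;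
* **`rk_herm`** : the same for a hermitian form over a field with `p ^ (2 j)` elements, if `t + j mod 2 j` is not in `T`
  for `t ∈ T`.
-/

set_option autoImplicit false
set_option linter.unusedSectionVars false
set_option linter.style.haveILetI false

namespace Cfsg.Agent.H353.Ker

open Finset Function

variable {K : Type*} [Field K] {k : Type*} [Field k] {M : Type*} [AddCommGroup M] [Module K M]

/-- A polarity with singular vectors `Sg`. -/
structure Pol (p j : ℕ) (Sg : M → Prop) (B : M → M → K) : Prop where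
  add_right : ∀ x y z, B x (y + z) = B x y + B x z
  smul_right : ∀ x (a : K) y, B x (a • y) = a * B x y
  add_left : ∀ x y z, B (x + y) z = B x z + B y z
  smul_left : ∀ (a : K) x y, B (a • x) y = a ^ p ^ j * B x y
  refl : ∀ x y, B x y = 0 → B y x = 0
  sg_smul : ∀ (a : K) x, Sg x → Sg (a • x)
  sg_add : ∀ x y, Sg x → Sg y → B x y = 0 → Sg (x + y)
  sg_self : ∀ x, Sg x → B x x = 0
  corr : ∀ u y, Sg u → B u y ≠ 0 → ∃ c : K, Sg (y + c • u)
  nd : ∀ x, (∀ y, B x y = 0) → x = 0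

theorem exists_root {p : ℕ} [Fact p.Prime] [CharP K p] [Finite K] (j : ℕ) (a : K) : ∃ c : K, c ^ p ^ j = a :=
  Finite.surjective_of_injective (iterateFrobenius K p j).injective a

namespace Pol

variable {p j : ℕ} {Sg : M → Prop} {B : M → M → K} (h : Pol p j Sg B)
include h

theorem zero_right (x : M) : B x 0 = 0 := by
  have := h.smul_right x 0 0
  rwa [zero_smul, zero_mul] at this

theorem zero_left (x : M) : B 0 x = 0 := h.refl _ _ (h.zero_right x)

theorem smul_left_zero {x y : M} (a : K) (hxy : B x y = 0) : B (a • x) y = 0 := by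
  rw [h.smul_left, hxy, mul_zero]

/-- two vectors dual to `x`, `u` -/
theorem dual_pair [Fact p.Prime] [CharP K p] [Finite K] {x u : M} (hx : x ≠ 0) (hu : ∀ c : K, u + c • x ≠ 0) :
    ∃ v w, B x v = 1 ∧ B u v = 0 ∧ B x w = 0 ∧ B u w = 1 := by
  obtain ⟨v₀', hv₀'⟩ : ∃ y, B x y ≠ 0 := by
    by_contra hcon
    push Not at hcon
    exact hx (h.nd x hcon)
  obtain ⟨v₀, hv₀⟩ : ∃ y, B x y = 1 := ⟨(B x v₀')⁻¹ • v₀', by rw [h.smul_right, inv_mul_cancel₀ hv₀']⟩
  obtain ⟨w₀, hw₀, hw₀'⟩ : ∃ y, B x y = 0 ∧ B u y ≠ 0 := by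
    by_contra hcon
    push Not at hcon
    -- `B u = B u v₀ * B x`
    obtain ⟨c, hc⟩ := exists_root (p := p) j (-(B u v₀))
    apply hu c
    refine h.nd _ fun y => ?_
    have h1 : B x (y + (-(B x y)) • v₀) = 0 := by
      rw [h.add_right, h.smul_right, hv₀, mul_one, add_neg_cancel]
    have h2 := hcon _ h1
    rw [h.add_right, h.smul_right] at h2
    rw [h.add_left, h.smul_left, hc]
    linear_combination h2
  obtain ⟨w, hw, hw'⟩ : ∃ y, B x y = 0 ∧ B u y = 1 := ⟨(B u w₀)⁻¹ • w₀, by rw [h.smul_right, hw₀, mul_zero], by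
    rw [h.smul_right, inv_mul_cancel₀ hw₀']⟩
  refine ⟨v₀ + (-(B u v₀)) • w, w, ?_, ?_, hw, hw'⟩
  · rw [h.add_right, h.smul_right, hw, mul_zero, add_zero, hv₀]
  · rw [h.add_right, h.smul_right, hw', mul_one, add_neg_cancel]

/-- a singular vector orthogonal to `x` and not a multiple of it -/
theorem exists_orth {e₁ e₂ : M} (h1 : Sg e₁) (h2 : Sg e₂) (h12 : B e₁ e₂ = 0)
    (hind : ∀ a b : K, a • e₁ + b • e₂ = 0 → a = 0 ∧ b = 0) (x : M) :
    ∃ u, Sg u ∧ B x u = 0 ∧ ∀ c : K, u + c • x ≠ 0 := by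
  have h21 := h.refl _ _ h12
  have h11 := h.sg_self _ h1
  have h22 := h.sg_self _ h2
  have hsg : ∀ a b : K, Sg (a • e₁ + b • e₂) := fun a b =>
    h.sg_add _ _ (h.sg_smul a _ h1) (h.sg_smul b _ h2) (by rw [h.smul_right, h.smul_left_zero a h12, mul_zero])
  -- the plane is totally isotropic
  have hE : ∀ a b : K, B (a • e₁ + b • e₂) e₁ = 0 ∧ B (a • e₁ + b • e₂) e₂ = 0 := fun a b => by
    constructor
    · rw [h.add_left, h.smul_left_zero a h11, h.smul_left_zero b h21, add_zero]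
    · rw [h.add_left, h.smul_left_zero a h12, h.smul_left_zero b h22, add_zero]
  by_cases h0 : B x e₁ = 0 ∧ B x e₂ = 0
  · by_cases h3 : ∀ c : K, e₁ + c • x ≠ 0
    · exact ⟨e₁, h1, h0.1, h3⟩
    · push Not at h3
      obtain ⟨c, hc⟩ := h3
      refine ⟨e₂, h2, h0.2, fun d hd => ?_⟩
      have hc0 : c ≠ 0 := by
        rintro rfl
        have := (hind 1 0 (by rw [one_smul, zero_smul, add_zero]; rwa [zero_smul, add_zero] at hc)).1
        exact one_ne_zero this
      have h4 : (-d) • e₁ + c • e₂ = 0 := by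
        have e1 : (-d) • e₁ + c • e₂ = (-d) • (e₁ + c • x) + c • (e₂ + d • x) := by
          rw [smul_add, smul_add, smul_smul, smul_smul]
          have : (-d * c) • x = -((c * d) • x) := by rw [← neg_smul]; congr 1; ring
          rw [this]
          abel
        rw [e1, hc, hd, smul_zero, smul_zero, add_zero]
      exact hc0 (hind _ _ h4).2
  · refine ⟨(B x e₂) • e₁ + (-(B x e₁)) • e₂, hsg _ _, ?_, fun c hc => ?_⟩
    · rw [h.add_right, h.smul_right, h.smul_right]
      ring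
    · by_cases hc0 : c = 0
      · rw [hc0, zero_smul, add_zero] at hc
        obtain ⟨e1, e2⟩ := hind _ _ hc
        exact h0 ⟨neg_eq_zero.1 e2, e1⟩
      · -- `x` lies in the plane
        have e1 : x = (-c⁻¹ * B x e₂) • e₁ + (-c⁻¹ * -(B x e₁)) • e₂ := by
          have e2 : x = (-c⁻¹) • ((B x e₂) • e₁ + (-(B x e₁)) • e₂) := by
            have e3 : (B x e₂) • e₁ + (-(B x e₁)) • e₂ = -(c • x) := eq_neg_of_add_eq_zero_left hc
            rw [e3, smul_neg, neg_smul, neg_neg, smul_smul, inv_mul_cancel₀ hc0, one_smul]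
          conv_lhs => rw [e2]
          rw [smul_add, smul_smul, smul_smul]
        apply h0
        obtain ⟨e4, e5⟩ := hE (-c⁻¹ * B x e₂) (-c⁻¹ * -(B x e₁))
        rw [← e1] at e4 e5
        exact ⟨e4, e5⟩

/-- **the cone** -/
theorem cone [Fact p.Prime] [CharP K p] [Finite K] {e₁ e₂ : M} (h1 : Sg e₁) (h2 : Sg e₂) (h12 : B e₁ e₂ = 0)
    (hind : ∀ a b : K, a • e₁ + b • e₂ = 0 → a = 0 ∧ b = 0) : Cone p j {x : M | x ≠ 0 ∧ Sg x} B := by
  -- for each singular `x`, the vectors `u`, `v`, `w`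
  have key : ∀ x, x ≠ 0 → ∃ u v w, Sg u ∧ Sg w ∧ B x u = 0 ∧ B x v = 1 ∧ B u v = 0 ∧ B x w = 0 ∧ B u w = 1 := by
    intro x hx
    obtain ⟨u, hu, hxu, hne⟩ := h.exists_orth h1 h2 h12 hind x
    obtain ⟨v, w, e1, e2, e3, e4⟩ := h.dual_pair hx hne
    obtain ⟨c, hc⟩ := h.corr u w hu (by rw [e4]; exact one_ne_zero)
    refine ⟨u, v, w + c • u, hu, hc, hxu, e1, e2, ?_, ?_⟩
    · rw [h.add_right, h.smul_right, e3, hxu, mul_zero, add_zero]
    · rw [h.add_right, h.smul_right, e4, h.sg_self u hu, mul_zero, add_zero]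
  refine ⟨⟨e₁, ?_, h1⟩, ?_, h.add_right, h.smul_right, ?_⟩
  · rintro rfl
    exact one_ne_zero (hind 1 0 (by rw [smul_zero, zero_smul, add_zero])).1
  · rintro x ⟨hx, hsx⟩ y hy
    obtain ⟨u, v, w, hu, hw, hxu, hxv, huv, hxw, huw⟩ := key x hx
    have hgen : ∀ z, Sg z → B x z = 0 → z ∈ Submodule.span K
        {y | ∀ a : K, x + a • y ∈ {x : M | x ≠ 0 ∧ Sg x} ∨ x + a • y = 0} := by
      intro z hz hxz
      refine Submodule.subset_span fun a => ?_
      by_cases h0 : x + a • z = 0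
      · exact Or.inr h0
      · exact Or.inl ⟨h0, h.sg_add _ _ hsx (h.sg_smul a z hz) (by rw [h.smul_right, hxz, mul_zero])⟩
    have hne : ∀ z, B x z = 0 → B u z ≠ 0 → z ∈ Submodule.span K
        {y | ∀ a : K, x + a • y ∈ {x : M | x ≠ 0 ∧ Sg x} ∨ x + a • y = 0} := by
      intro z hxz huz
      obtain ⟨c, hc⟩ := h.corr u z hu huz
      have e1 : z = (z + c • u) - c • u := by abel
      rw [e1]
      refine sub_mem (hgen _ hc ?_) (Submodule.smul_mem _ _ (hgen u hu hxu))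
      rw [h.add_right, h.smul_right, hxz, hxu, mul_zero, add_zero]
    by_cases h0 : B u y = 0
    · have e1 : y = (y + w) - w := by abel
      rw [e1]
      refine sub_mem (hne _ ?_ ?_) (hgen w hw hxw)
      · rw [h.add_right, hy, hxw, add_zero]
      · rw [h.add_right, h0, zero_add, huw]
        exact one_ne_zero
    · exact hne y hy h0
  · rintro x ⟨hx, hsx⟩
    obtain ⟨u, v, w, hu, hw, hxu, hxv, huv, hxw, huw⟩ := key x hx
    refine ⟨u, v, w, fun a => ⟨⟨?_, ?_⟩, ?_, ?_⟩⟩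
    · intro h0
      have h3 : B (x + a • u) v = 1 := by rw [h.add_left, h.smul_left, hxv, huv, mul_zero, add_zero]
      rw [h0, h.zero_left] at h3
      exact one_ne_zero h3.symm
    · exact h.sg_add _ _ hsx (h.sg_smul a u hu) (by rw [h.smul_right, hxu, mul_zero])
    · rw [h.add_left, h.smul_left, hxv, huv, mul_zero, add_zero]
    · rw [h.add_left, h.smul_left, hxw, huw, mul_one, zero_add]

/-- the dual basis -/
theorem exists_dual [Fact p.Prime] [CharP K p] [Finite K] {ι : Type*} [Fintype ι] [DecidableEq ι]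
    (b : Module.Basis ι K M) : ∃ d : ι → M, ∀ i l, B (d l) (b i) = if i = l then 1 else 0 := by
  have : Finite M := Finite.of_equiv _ b.equivFun.symm.toEquiv
  let Ψ : M → Module.Dual K M := fun z =>
    { toFun := fun y => B z y
      map_add' := h.add_right z
      map_smul' := fun a y => h.smul_right z a y }
  have hinj : Injective Ψ := by
    intro z z' hz
    have h3 : z + (-1 : K) • z' = 0 := by
      refine h.nd _ fun y => ?_
      have e1 : B z y = B z' y := congrArg (fun φ : Module.Dual K M => φ y) hz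
      have e2 : ∀ z', B ((-1 : K) • z') y = - B z' y := by
        intro z'
        have h4 : B (z' + (-1 : K) • z') y = 0 := by
          rw [neg_smul, one_smul, add_neg_cancel, h.zero_left]
        rw [h.add_left] at h4
        exact eq_neg_of_add_eq_zero_right h4
      rw [h.add_left, e2, e1, add_neg_cancel]
    rw [neg_smul, one_smul, add_neg_eq_zero] at h3
    exact h3
  have hsurj : Surjective Ψ := by
    have h4 : Injective (fun z => b.toDualEquiv.symm (Ψ z)) := b.toDualEquiv.symm.injective.comp hinj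
    intro φ
    obtain ⟨z, hz⟩ := Finite.surjective_of_injective h4 (b.toDualEquiv.symm φ)
    exact ⟨z, b.toDualEquiv.symm.injective hz⟩
  choose d hd using fun l => hsurj (b.coord l)
  refine ⟨d, fun i l => ?_⟩
  have h5 : B (d l) (b i) = b.coord l (b i) := congrArg (fun φ : Module.Dual K M => φ (b i)) (hd l)
  rw [h5, Module.Basis.coord_apply, Module.Basis.repr_self, Finsupp.single_apply]

/-- **The rank.** -/
theorem rk_eq [Fact p.Prime] [CharP K p] [CharP k p] [Finite K] [Module.Finite K M] {e : ℕ} (hK : Nat.card K = p ^ e)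
    {e₁ e₂ : M} (h1 : Sg e₁) (h2 : Sg e₂) (h12 : B e₁ e₂ = 0)
    (hind : ∀ a b : K, a • e₁ + b • e₂ = 0 → a = 0 ∧ b = 0) {T : Finset ℕ} (hT : ∀ t ∈ T, t < e)
    (hj : ∀ t ∈ T, (t + j) % e ∉ T.erase t)
    (hj' : ∀ s ∈ univ.image (slot e j T), (s + j) % e ∉ (univ.image (slot e j T)).erase s)
    (σ : K →+* k) {α β : Type*} (y : α → Module.Dual K M)
    (hy : ∀ s, s ≠ 0 → Sg s → ∃ a, ∃ c : K, c ≠ 0 ∧ ∀ v, y a v = c * B s v)
    (x : β → M) (hx : ∀ s, s ≠ 0 → Sg s → ∃ a, ∃ c : K, c ≠ 0 ∧ x a = c • s) :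
    rk (fun (a : α) (c : β) => σ (y a (x c)) ^ ∑ t ∈ T, p ^ t) = Module.finrank K M ^ T.card := by
  classical
  let b := Module.finBasis K M
  obtain ⟨d, hd⟩ := h.exists_dual b
  have h3 := rk_cone (σ := σ) hK (h.cone h1 h2 h12 hind) hT hj hj' b h.add_left h.smul_left hd y
    (fun s hs => hy s hs.1 hs.2) x (fun s hs => hx s hs.1 hs.2)
  rw [h3, Fintype.card_fin]

end Pol

/-! ### quadratic forms -/

section quad

theorem slot_zero {T : Finset ℕ} {e : ℕ} (hT : ∀ t ∈ T, t < e) : univ.image (slot e 0 T) = T := by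
  ext s
  rw [Finset.mem_image]
  constructor
  · rintro ⟨t, -, rfl⟩
    rw [slot, add_zero, Nat.mod_eq_of_lt (hT t t.2)]
    exact t.2
  · intro hs
    exact ⟨⟨s, hs⟩, mem_univ _, by rw [slot, add_zero, Nat.mod_eq_of_lt (hT s hs)]⟩

theorem pol_quad {p : ℕ} {Q : M → K} {B : M → M → K} (hQ : ∀ (a : K) x, Q (a • x) = a ^ 2 * Q x)
    (hQB : ∀ x y, Q (x + y) = Q x + Q y + B x y) (hadd : ∀ x y z, B x (y + z) = B x y + B x z)
    (hsmul : ∀ x (a : K) y, B x (a • y) = a * B x y) (hnd : ∀ x, (∀ y, B x y = 0) → x = 0) :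
    Pol p 0 (fun x => Q x = 0) B := by
  have hsymm : ∀ x y, B x y = B y x := by
    intro x y
    have h1 := hQB x y
    have h2 := hQB y x
    rw [add_comm y x, h1] at h2
    linear_combination h2
  refine ⟨hadd, hsmul, fun x y z => by rw [hsymm, hadd, hsymm z x, hsymm z y], fun a x y => by
    rw [pow_zero, pow_one, hsymm, hsmul, hsymm y x], fun x y hxy => by rw [hsymm, hxy], ?_, ?_, ?_, ?_, hnd⟩
  · intro a x hx
    rw [hQ, hx, mul_zero]
  · intro x y hx hy hxy
    rw [hQB, hx, hy, hxy, add_zero, add_zero]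
  · intro x hx
    have h1 := hQB x x
    have h2 := hQ 2 x
    rw [two_smul] at h2
    rw [hx] at h1 h2
    rw [h2] at h1
    linear_combination -h1
  · intro u y hu hne
    refine ⟨-(Q y) / B u y, ?_⟩
    rw [hQB, hQ, hu, hsmul, hsymm y u, div_mul_cancel₀ _ hne]
    ring

/-- **Quadratic forms.** -/
theorem rk_quad {p : ℕ} [Fact p.Prime] [CharP K p] [CharP k p] [Finite K] [Module.Finite K M] {e : ℕ}
    (hK : Nat.card K = p ^ e) {Q : M → K} {B : M → M → K} (hQ : ∀ (a : K) x, Q (a • x) = a ^ 2 * Q x)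
    (hQB : ∀ x y, Q (x + y) = Q x + Q y + B x y) (hadd : ∀ x y z, B x (y + z) = B x y + B x z)
    (hsmul : ∀ x (a : K) y, B x (a • y) = a * B x y) (hnd : ∀ x, (∀ y, B x y = 0) → x = 0)
    {e₁ e₂ : M} (h1 : Q e₁ = 0) (h2 : Q e₂ = 0) (h12 : B e₁ e₂ = 0)
    (hind : ∀ a b : K, a • e₁ + b • e₂ = 0 → a = 0 ∧ b = 0) {T : Finset ℕ} (hT : ∀ t ∈ T, t < e)
    (σ : K →+* k) {α β : Type*} (y : α → Module.Dual K M)
    (hy : ∀ s, s ≠ 0 → Q s = 0 → ∃ a, ∃ c : K, c ≠ 0 ∧ ∀ v, y a v = c * B s v)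
    (x : β → M) (hx : ∀ s, s ≠ 0 → Q s = 0 → ∃ a, ∃ c : K, c ≠ 0 ∧ x a = c • s) :
    rk (fun (a : α) (c : β) => σ (y a (x c)) ^ ∑ t ∈ T, p ^ t) = Module.finrank K M ^ T.card := by
  have h3 : ∀ t ∈ T, (t + 0) % e ∉ T.erase t := by
    intro t ht
    rw [add_zero, Nat.mod_eq_of_lt (hT t ht)]
    exact Finset.notMem_erase t T
  exact (pol_quad (p := p) hQ hQB hadd hsmul hnd).rk_eq hK h1 h2 h12 hind hT h3 (by rwa [slot_zero hT]) σ y hy x hx

/-- the version for the forms of the list -/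
theorem rk_quadForm {p : ℕ} [Fact p.Prime] [CharP K p] [CharP k p] [Finite K] {ι : Type} [Fintype ι] {e : ℕ}
    (hK : Nat.card K = p ^ e) {Q : (ι → K) → K} (hQ : Cfsg.Geo.IsNondegenerateQuadraticForm Q)
    {e₁ e₂ : ι → K} (h1 : Q e₁ = 0) (h2 : Q e₂ = 0) (h12 : QuadraticMap.polar Q e₁ e₂ = 0)
    (hind : ∀ a b : K, a • e₁ + b • e₂ = 0 → a = 0 ∧ b = 0) {T : Finset ℕ} (hT : ∀ t ∈ T, t < e)
    (σ : K →+* k) {α β : Type*} (y : α → Module.Dual K (ι → K))
    (hy : ∀ s, s ≠ 0 → Q s = 0 → ∃ a, ∃ c : K, c ≠ 0 ∧ ∀ v, y a v = c * QuadraticMap.polar Q s v)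
    (x : β → ι → K) (hx : ∀ s, s ≠ 0 → Q s = 0 → ∃ a, ∃ c : K, c ≠ 0 ∧ x a = c • s) :
    rk (fun (a : α) (c : β) => σ (y a (x c)) ^ ∑ t ∈ T, p ^ t) = Fintype.card ι ^ T.card := by
  rw [rk_quad hK hQ.smul (B := QuadraticMap.polar Q) (fun x y => by rw [QuadraticMap.polar]; ring)
    (fun x y z => hQ.polar_bilinear.add_right x y z) (fun x a y => hQ.polar_bilinear.smul_right a x y)
    (fun x hx => by
      by_contra h0
      obtain ⟨-, y, hy⟩ := hQ.nondegenerate x h0
      exact hy (hx y)) h1 h2 h12 hind hT σ y hy x hx, Module.finrank_fintype_fun_eq_card]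

end quad

/-! ### hermitian forms -/

section herm

/-- surjectivity of the trace -/
theorem exists_trace {p j : ℕ} [hp : Fact p.Prime] [CharP K p] [Finite K] (hK : Nat.card K = p ^ (2 * j)) (hj : 0 < j)
    {c : K} (hc : c ^ p ^ j = c) : ∃ a : K, a + a ^ p ^ j = c := by
  obtain ⟨θ, hθ⟩ : ∃ θ : K, θ ^ p ^ j + θ ≠ 0 := by
    by_contra hcon
    push Not at hcon
    have h1 : 1 < p ^ j := Nat.one_lt_pow hj.ne' hp.out.one_lt
    have h2 : (Polynomial.X ^ p ^ j + Polynomial.X : Polynomial K) = 0 := by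
      refine poly_zero (σ := RingHom.id K) ?_ fun a => ?_
      · rw [hK]
        have h3 : (Polynomial.X ^ p ^ j + Polynomial.X : Polynomial K).natDegree = p ^ j := by
          rw [Polynomial.natDegree_add_eq_left_of_natDegree_lt]
          · rw [Polynomial.natDegree_X_pow]
          · rw [Polynomial.natDegree_X_pow, Polynomial.natDegree_X]
            exact h1
        rw [h3]
        exact Nat.pow_lt_pow_right hp.out.one_lt (by omega)
      · rw [Polynomial.eval_add, Polynomial.eval_pow, Polynomial.eval_X]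
        exact hcon a
    have h3 := congrArg (fun P => Polynomial.coeff P 1) h2
    simp only [Polynomial.coeff_add, Polynomial.coeff_X_pow, Polynomial.coeff_X_one, Polynomial.coeff_zero,
      if_neg (ne_of_lt h1), zero_add] at h3
    exact one_ne_zero h3
  have h1 : (θ ^ p ^ j + θ) ^ p ^ j = θ ^ p ^ j + θ := by
    rw [add_pow_char_pow, ← pow_mul, ← pow_add, ← two_mul]
    have h2 : θ ^ p ^ (2 * j) = θ := by
      have : Fintype K := Fintype.ofFinite K
      rw [← hK, Nat.card_eq_fintype_card, FiniteField.pow_card]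
    rw [h2, add_comm]
  refine ⟨θ * (c / (θ ^ p ^ j + θ)), ?_⟩
  rw [mul_pow, div_pow, hc, h1, ← add_mul, add_comm θ, mul_div_cancel₀ _ hθ]

theorem pol_herm {p j : ℕ} [hp : Fact p.Prime] [CharP K p] [Finite K] (hK : Nat.card K = p ^ (2 * j)) (hj : 0 < j)
    {H : M → M → K} (hadd : ∀ x y z, H (x + y) z = H x z + H y z)
    (hsmul : ∀ (a : K) x y, H (a • x) y = a * H x y) (hherm : ∀ x y, H x y = H y x ^ p ^ j)
    (hnd : ∀ x, (∀ y, H y x = 0) → x = 0) : Pol p j (fun x => H x x = 0) (fun x y => H y x) := by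
  have hp0 : p ^ j ≠ 0 := pow_ne_zero _ hp.out.ne_zero
  have hadd' : ∀ x y z, H x (y + z) = H x y + H x z := by
    intro x y z
    rw [hherm, hadd, add_pow_char_pow, ← hherm, ← hherm]
  have hsmul' : ∀ (a : K) x y, H x (a • y) = a ^ p ^ j * H x y := by
    intro a x y
    rw [hherm, hsmul, mul_pow, ← hherm]
  refine ⟨fun x y z => hadd y z x, fun x a y => hsmul a y x, fun x y z => hadd' z x y, fun a x y => hsmul' a y x,
    fun x y hxy => ?_, ?_, ?_, fun x hx => hx, ?_, hnd⟩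
  · rw [hherm, hxy, zero_pow hp0]
  · intro a x hx
    rw [hsmul, hsmul', hx, mul_zero, mul_zero]
  · intro x y hx hy hxy
    have h1 : H x y = 0 := by rw [hherm, hxy, zero_pow hp0]
    rw [hadd, hadd', hadd', hx, hy, hxy, h1]
    ring
  · intro u y hu hne
    have h1 : H u y ≠ 0 := by
      intro h0
      apply hne
      rw [hherm, h0, zero_pow hp0]
    have h2 : (- H y y) ^ p ^ j = - H y y := by
      have h3 : (iterateFrobenius K p j) (- H y y) = - (iterateFrobenius K p j) (H y y) := map_neg _ _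
      rw [iterateFrobenius_def, iterateFrobenius_def] at h3
      rw [h3, ← hherm]
    obtain ⟨s, hs⟩ := exists_trace hK hj h2
    refine ⟨s / H u y, ?_⟩
    have h3 : (s / H u y) ^ p ^ j * H y u = s ^ p ^ j := by
      rw [hherm y u, ← mul_pow, div_mul_cancel₀ _ h1]
    rw [hadd, hadd', hadd', hsmul, hsmul, hsmul', hsmul', hu, h3, div_mul_cancel₀ _ h1]
    linear_combination hs

/-- **Hermitian forms.** `H` is linear in the first variable and `H x y = (H y x) ^ q₀`, `q₀ = p ^ j`, `|K| = q₀ ^ 2`. -/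
theorem rk_herm {p j : ℕ} [hp : Fact p.Prime] [CharP K p] [CharP k p] [Finite K] [Module.Finite K M]
    (hK : Nat.card K = p ^ (2 * j)) (hj : 0 < j) {H : M → M → K} (hadd : ∀ x y z, H (x + y) z = H x z + H y z)
    (hsmul : ∀ (a : K) x y, H (a • x) y = a * H x y) (hherm : ∀ x y, H x y = H y x ^ p ^ j)
    (hnd : ∀ x, (∀ y, H y x = 0) → x = 0)
    {e₁ e₂ : M} (h1 : H e₁ e₁ = 0) (h2 : H e₂ e₂ = 0) (h12 : H e₁ e₂ = 0)
    (hind : ∀ a b : K, a • e₁ + b • e₂ = 0 → a = 0 ∧ b = 0) {T : Finset ℕ} (hT : ∀ t ∈ T, t < 2 * j)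
    (hTj : ∀ t ∈ T, (t + j) % (2 * j) ∉ T)
    (σ : K →+* k) {α β : Type*} (y : α → Module.Dual K M)
    (hy : ∀ s, s ≠ 0 → H s s = 0 → ∃ a, ∃ c : K, c ≠ 0 ∧ ∀ v, y a v = c * H v s)
    (x : β → M) (hx : ∀ s, s ≠ 0 → H s s = 0 → ∃ a, ∃ c : K, c ≠ 0 ∧ x a = c • s) :
    rk (fun (a : α) (c : β) => σ (y a (x c)) ^ ∑ t ∈ T, p ^ t) = Module.finrank K M ^ T.card := by
  have h21 : H e₂ e₁ = 0 := by rw [hherm, h12, zero_pow (pow_ne_zero _ hp.out.ne_zero)]
  refine (pol_herm hK hj hadd hsmul hherm hnd).rk_eq hK h1 h2 h21 hind hT (fun t ht h' =>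
    hTj t ht (Finset.mem_of_mem_erase h')) ?_ σ y hy x hx
  intro s hs h'
  obtain ⟨t, -, rfl⟩ := Finset.mem_image.1 hs
  obtain ⟨t', -, e'⟩ := Finset.mem_image.1 (Finset.mem_of_mem_erase h')
  have e1 : (slot (2 * j) j T t + j) % (2 * j) = t := by
    rw [slot, Nat.mod_add_mod, add_assoc, ← two_mul, Nat.add_mod_right, Nat.mod_eq_of_lt (hT t t.2)]
  rw [e1] at e'
  apply hTj t' t'.2
  have e2 : ((t' : ℕ) + j) % (2 * j) = t := e'
  rw [e2]
  exact t.2

end herm

end Cfsg.Agent.H353.Ker
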