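import Cfsg.Agent.H353.Ker.Forms

/-!
# The hermitian kernel `H(x, y) ^ (1 + q₀)` (helper353, for TEAM PPD)

* `card_sub_two_le_rk` : a matrix `∑ s, A s a * C s b` whose families of rows and columns have at most one relation;
* `sesq_eq` : a sesquilinear form vanishing on the isotropic vectors of `H` is a multiple of `H`;
* **`rk_herm_adj`** : the rank of `(σ (H x y) ^ (1 + q₀))` on the isotropic vectors is at least `d ^ 2 - 2`.
-/

set_option autoImplicit false
set_option linter.unusedSectionVars false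
set_option linter.style.haveILetI false

namespace Cfsg.Agent.H353.Ker

open Finset Function

section lin

variable {k : Type*} [Field k] {α β ι : Type*} [Fintype ι]

theorem finrank_single_le {V : Type*} [AddCommGroup V] [Module k V] (v : V) :
    Module.finrank k (Submodule.span k {v}) ≤ 1 := by
  classical
  refine (finrank_span_le_card (R := k) ({v} : Set V)).trans ?_
  rw [Set.toFinset_singleton, Finset.card_singleton]

theorem card_sub_two_le_rk (F : α → β → k) (A : ι → α → k) (C : ι → β → k)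
    (h : ∀ a b, F a b = ∑ s, A s a * C s b) {cA cC : ι → k}
    (hA : ∀ c : ι → k, (∀ a, ∑ s, c s * A s a = 0) → ∃ r : k, c = r • cA)
    (hC : ∀ c : ι → k, (∀ b, ∑ s, c s * C s b = 0) → ∃ r : k, c = r • cC) :
    Fintype.card ι ≤ rk F + 2 := by
  classical
  set W : Submodule k (ι → k) := Submodule.span k (Set.range fun (a : α) (s : ι) => A s a) with hW
  -- the annihilator of `W`
  have key : ∀ (φ : Module.Dual k (ι → k)) (v : ι → k), φ v = ∑ s, φ (Pi.single s 1) * v s := by
    intro φ v
    conv_lhs => rw [← Finset.univ_sum_single v]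
    rw [map_sum]
    refine Finset.sum_congr rfl fun s _ => ?_
    have : Pi.single s (v s) = v s • (Pi.single s 1 : ι → k) := by
      rw [← Pi.single_smul, smul_eq_mul, mul_one]
    rw [this, map_smul, smul_eq_mul, mul_comm]
  let φ₀ : Module.Dual k (ι → k) := ∑ s, cA s • LinearMap.proj s
  have hφ₀ : ∀ v, φ₀ v = ∑ s, cA s * v s := by
    intro v
    simp only [φ₀, LinearMap.sum_apply, LinearMap.smul_apply, LinearMap.proj_apply, smul_eq_mul]
  have h1 : W.dualAnnihilator ≤ Submodule.span k {φ₀} := by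
    intro φ hφ
    rw [Submodule.mem_dualAnnihilator] at hφ
    obtain ⟨r, hr⟩ := hA (fun s => φ (Pi.single s 1)) fun a => by
      rw [← key φ]
      exact hφ _ (Submodule.subset_span ⟨a, rfl⟩)
    rw [Submodule.mem_span_singleton]
    refine ⟨r, LinearMap.ext fun v => ?_⟩
    rw [LinearMap.smul_apply, hφ₀, key φ v, smul_eq_mul, Finset.mul_sum]
    refine Finset.sum_congr rfl fun s _ => ?_
    rw [congrFun hr s, Pi.smul_apply, smul_eq_mul, mul_assoc]
  have h2 : Module.finrank k W.dualAnnihilator ≤ 1 :=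
    (Submodule.finrank_mono h1).trans (finrank_single_le φ₀)
  have h3 := Subspace.finrank_add_finrank_dualAnnihilator_eq W
  rw [Module.finrank_fintype_fun_eq_card] at h3
  -- the kernel of `comb`
  have h4 : LinearMap.ker (comb C) ≤ Submodule.span k {cC} := by
    intro c hc
    obtain ⟨r, hr⟩ := hC c fun b => congrFun (LinearMap.mem_ker.1 hc) b
    rw [Submodule.mem_span_singleton]
    exact ⟨r, hr.symm⟩
  have h5 := LinearMap.finrank_range_add_finrank_ker ((comb C).domRestrict W)
  have h6 : LinearMap.range ((comb C).domRestrict W) = W.map (comb C) := LinearMap.range_domRestrict _ _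
  have h7 : Module.finrank k (LinearMap.ker ((comb C).domRestrict W)) ≤ 1 := by
    have h8 : (LinearMap.ker ((comb C).domRestrict W)).map W.subtype ≤ Submodule.span k {cC} := by
      rintro _ ⟨w, hw, rfl⟩
      exact h4 hw
    have h9 : Module.finrank k ((LinearMap.ker ((comb C).domRestrict W)).map W.subtype) =
        Module.finrank k (LinearMap.ker ((comb C).domRestrict W)) :=
      (Submodule.equivMapOfInjective _ W.injective_subtype _).finrank_eq.symm
    rw [← h9]
    exact (Submodule.finrank_mono h8).trans (finrank_single_le cC)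
  have h10 : rk F = Module.finrank k (W.map (comb C)) := by
    unfold rk
    rw [span_range_eq F A C h]
  rw [h6] at h5
  omega

end lin

/-- a nonzero element of trace zero -/
theorem exists_trace_zero {K : Type*} [Field K] {p j : ℕ} [hp : Fact p.Prime] [CharP K p] [Finite K]
    (hK : Nat.card K = p ^ (2 * j)) (hj : 0 < j) : ∃ κ : K, κ ≠ 0 ∧ κ + κ ^ p ^ j = 0 := by
  by_contra hcon
  push Not at hcon
  let φ : K →+ K :=
    { toFun := fun a => a + a ^ p ^ j
      map_zero' := by rw [zero_pow (pow_ne_zero _ hp.out.ne_zero), add_zero]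
      map_add' := fun a b => by
        rw [add_pow_char_pow]
        abel }
  have hinj : Function.Injective φ := by
    rw [injective_iff_map_eq_zero]
    intro a ha
    by_contra h0
    exact hcon a h0 ha
  have hsurj := Finite.surjective_of_injective hinj
  have h1 : 1 < p ^ j := Nat.one_lt_pow hj.ne' hp.out.one_lt
  have h2 : (Polynomial.X ^ p ^ j - Polynomial.X : Polynomial K) = 0 := by
    refine poly_zero (σ := RingHom.id K) ?_ fun c => ?_
    · rw [hK]
      have h3 : (Polynomial.X ^ p ^ j - Polynomial.X : Polynomial K).natDegree = p ^ j := by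
        rw [Polynomial.natDegree_sub_eq_left_of_natDegree_lt]
        · rw [Polynomial.natDegree_X_pow]
        · rw [Polynomial.natDegree_X_pow, Polynomial.natDegree_X]
          exact h1
      rw [h3]
      exact Nat.pow_lt_pow_right hp.out.one_lt (by omega)
    · rw [Polynomial.eval_sub, Polynomial.eval_pow, Polynomial.eval_X, RingHom.id_apply]
      obtain ⟨a, rfl⟩ := hsurj c
      change (a + a ^ p ^ j) ^ p ^ j - (a + a ^ p ^ j) = 0
      have h2 : a ^ p ^ (2 * j) = a := by
        have : Fintype K := Fintype.ofFinite K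
        rw [← hK, Nat.card_eq_fintype_card, FiniteField.pow_card]
      rw [add_pow_char_pow, ← pow_mul, ← pow_add, ← two_mul, h2]
      ring
  have h3 := congrArg (fun P => Polynomial.coeff P 1) h2
  simp only [Polynomial.coeff_sub, Polynomial.coeff_X_pow, Polynomial.coeff_X_one, Polynomial.coeff_zero,
    if_neg (ne_of_lt h1), zero_sub, neg_eq_zero] at h3
  exact one_ne_zero h3

section sesq

variable {K : Type*} [Field K] {k : Type*} [Field k] {M : Type*} [AddCommGroup M] [Module K M]
  {p j : ℕ} [hp : Fact p.Prime] [CharP K p] [CharP k p] [Finite K] {τ : K →+* k}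

/-- a sesquilinear form along `τ` -/
structure Sesq (p j : ℕ) (τ : K →+* k) (F : M → M → k) : Prop where
  add_left : ∀ x y z, F (x + y) z = F x z + F y z
  smul_left : ∀ (a : K) x y, F (a • x) y = τ a * F x y
  add_right : ∀ x y z, F x (y + z) = F x y + F x z
  smul_right : ∀ (a : K) x y, F x (a • y) = τ a ^ p ^ j * F x y

theorem Sesq.zero_left {F : M → M → k} (hF : Sesq p j τ F) (x : M) : F 0 x = 0 := by
  have := hF.smul_left 0 0 x
  rwa [zero_smul, map_zero, zero_mul] at this

/-- coefficients -/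
theorem Sesq.polar (hK : Nat.card K = p ^ (2 * j)) (hj : 0 < j) {F : M → M → k} (hF : Sesq p j τ F) {x y : M}
    (h : ∀ a : K, F (x + a • y) (x + a • y) = 0) : F x y = 0 ∧ F y x = 0 := by
  have h1 : 1 < p ^ j := Nat.one_lt_pow hj.ne' hp.out.one_lt
  have hPe : ∀ a : K, (Polynomial.C (F x x) + Polynomial.C (F x y) * Polynomial.X ^ p ^ j +
      Polynomial.C (F y x) * Polynomial.X + Polynomial.C (F y y) * Polynomial.X ^ (p ^ j + 1)).eval (τ a) = 0 := by
    intro a
    have h2 := h a
    rw [hF.add_left, hF.add_right, hF.add_right, hF.smul_right, hF.smul_left, hF.smul_right, hF.smul_left] at h2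
    simp only [Polynomial.eval_add, Polynomial.eval_mul, Polynomial.eval_C, Polynomial.eval_pow, Polynomial.eval_X]
    rw [← h2]
    ring
  have hP := poly_zero (σ := τ) (P := Polynomial.C (F x x) + Polynomial.C (F x y) * Polynomial.X ^ p ^ j +
      Polynomial.C (F y x) * Polynomial.X + Polynomial.C (F y y) * Polynomial.X ^ (p ^ j + 1)) (by
    have h3 : p ^ j + 1 < p ^ (2 * j) := by
      rw [two_mul, pow_add]
      nlinarith
    rw [hK]
    refine lt_of_le_of_lt ?_ h3
    refine (Polynomial.natDegree_add_le _ _).trans (max_le ?_ ?_)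
    · refine (Polynomial.natDegree_add_le _ _).trans (max_le ?_ ?_)
      · refine (Polynomial.natDegree_add_le _ _).trans (max_le ?_ ?_)
        · rw [Polynomial.natDegree_C]; exact Nat.zero_le _
        · exact (Polynomial.natDegree_C_mul_X_pow_le _ _).trans (Nat.le_succ _)
      · refine (Polynomial.natDegree_C_mul_le _ _).trans ?_
        rw [Polynomial.natDegree_X]
        omega
    · exact Polynomial.natDegree_C_mul_X_pow_le _ _) hPe
  constructor
  · have h2 := congrArg (fun P => Polynomial.coeff P (p ^ j)) hP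
    simp only [Polynomial.coeff_add, Polynomial.coeff_C_mul, Polynomial.coeff_X_pow, Polynomial.coeff_zero,
      Polynomial.coeff_C, Polynomial.coeff_X] at h2
    have n1 : ¬ p ^ j = 0 := by omega
    have n2 : ¬ 1 = p ^ j := by omega
    have n3 : ¬ p ^ j = p ^ j + 1 := by omega
    rw [if_neg n1, if_neg n2, if_neg n3, if_pos trivial] at h2
    rw [zero_add, mul_one, mul_zero, mul_zero, add_zero, add_zero] at h2
    exact h2
  · have h2 := congrArg (fun P => Polynomial.coeff P 1) hP
    simp only [Polynomial.coeff_add, Polynomial.coeff_C_mul, Polynomial.coeff_X_pow, Polynomial.coeff_zero,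
      Polynomial.coeff_C, Polynomial.coeff_X] at h2
    have n1 : ¬ (1 : ℕ) = 0 := by omega
    have n2 : ¬ 1 = p ^ j := by omega
    have n3 : ¬ 1 = p ^ j + 1 := by omega
    rw [if_neg n1, if_neg n2, if_neg n3, if_pos trivial] at h2
    rw [zero_add, mul_one, mul_zero, mul_zero, add_zero, zero_add] at h2
    exact h2

variable {H : M → M → K} (hadd : ∀ x y z, H (x + y) z = H x z + H y z)
  (hsmul : ∀ (a : K) x y, H (a • x) y = a * H x y) (hherm : ∀ x y, H x y = H y x ^ p ^ j)
  (hnd : ∀ x, (∀ y, H y x = 0) → x = 0)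
  {e₁ e₂ : M} (h1 : H e₁ e₁ = 0) (h2 : H e₂ e₂ = 0) (h12 : H e₁ e₂ = 0)
  (hind : ∀ a b : K, a • e₁ + b • e₂ = 0 → a = 0 ∧ b = 0)
include hadd hsmul hherm hnd h1 h2 h12 hind

/-- **A sesquilinear form vanishing on the isotropic vectors is a multiple of `H`.** -/
theorem sesq_eq (hK : Nat.card K = p ^ (2 * j)) (hj : 0 < j) {F : M → M → k} (hF : Sesq p j τ F)
    (h0 : ∀ x, H x x = 0 → F x x = 0) : ∃ r : k, ∀ u v, F u v = r * τ (H u v) := by
  have h21 : H e₂ e₁ = 0 := by rw [hherm, h12, zero_pow (pow_ne_zero _ hp.out.ne_zero)]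
  have hpol := pol_herm hK hj hadd hsmul hherm hnd
  have hC := hpol.cone h1 h2 h21 hind
  have hadd' : ∀ x y z, H x (y + z) = H x y + H x z := by
    intro x y z
    rw [hherm, hadd, add_pow_char_pow, ← hherm, ← hherm]
  have hsmul' : ∀ (a : K) x y, H x (a • y) = a ^ p ^ j * H x y := by
    intro a x y
    rw [hherm, hsmul, mul_pow, ← hherm]
  -- `F z v = F v z = 0` for `v` orthogonal to `z`
  have P1 : ∀ z, z ≠ 0 → H z z = 0 → ∀ v, H v z = 0 → F z v = 0 ∧ F v z = 0 := by
    intro z hz hzz v hv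
    let L : Submodule K M :=
      { carrier := {v | F z v = 0 ∧ F v z = 0}
        zero_mem' := by
          refine ⟨?_, hF.zero_left z⟩
          have := hF.smul_right 0 z 0
          rwa [zero_smul, map_zero, zero_pow (pow_ne_zero _ hp.out.ne_zero), zero_mul] at this
        add_mem' := by
          rintro u v ⟨hu, hu'⟩ ⟨hv, hv'⟩
          exact ⟨by rw [hF.add_right, hu, hv, add_zero], by rw [hF.add_left, hu', hv', add_zero]⟩
        smul_mem' := by
          rintro a u ⟨hu, hu'⟩
          exact ⟨by rw [hF.smul_right, hu, mul_zero], by rw [hF.smul_left, hu', mul_zero]⟩ }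
    have hle : Submodule.span K {y | ∀ a : K, z + a • y ∈ {x : M | x ≠ 0 ∧ H x x = 0} ∨ z + a • y = 0} ≤ L := by
      rw [Submodule.span_le]
      intro y hy
      refine hF.polar hK hj fun a => ?_
      rcases hy a with h3 | h3
      · exact h0 _ h3.2
      · rw [h3]
        exact hF.zero_left 0
    exact hle (hC.span z ⟨hz, hzz⟩ v hv)
  -- a vector with `H z v = 1`
  have P2 : ∀ z, z ≠ 0 → H z z = 0 → ∃ r s : k, (∀ v, F z v = r * τ (H z v)) ∧ ∀ v, F v z = s * τ (H v z) := by
    intro z hz hzz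
    obtain ⟨_, v₁, _, hv⟩ := hC.hyp z ⟨hz, hzz⟩
    obtain ⟨-, hv₁, -⟩ := hv 0
    rw [zero_smul, add_zero] at hv₁
    have hv₁' : H z v₁ = 1 := by rw [hherm, hv₁, one_pow]
    refine ⟨F z v₁, F v₁ z, fun v => ?_, fun v => ?_⟩
    · have e1 : H (v + (-(H v z)) • v₁) z = 0 := by rw [hadd, hsmul, hv₁, mul_one, add_neg_cancel]
      have e2 := (P1 z hz hzz _ e1).1
      have e3 : F z v = F z (v + (-(H v z)) • v₁) + F z ((H v z) • v₁) := by
        rw [← hF.add_right, neg_smul, neg_add_cancel_right]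
      rw [e3, e2, zero_add, hF.smul_right, ← map_pow, ← hherm, mul_comm]
    · have e1 : H (v + (-(H v z)) • v₁) z = 0 := by rw [hadd, hsmul, hv₁, mul_one, add_neg_cancel]
      have e2 := (P1 z hz hzz _ e1).2
      have e3 : F v z = F (v + (-(H v z)) • v₁) z + F ((H v z) • v₁) z := by
        rw [← hF.add_left, neg_smul, neg_add_cancel_right]
      rw [e3, e2, zero_add, hF.smul_left, mul_comm]
  -- comparison
  have he₁ : e₁ ≠ 0 := by
    rintro rfl
    exact one_ne_zero (hind 1 0 (by rw [smul_zero, zero_smul, add_zero])).1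
  obtain ⟨r, _, hr, -⟩ := P2 e₁ he₁ h1
  have P3 : ∀ z, z ≠ 0 → H z z = 0 → ∀ y, y ≠ 0 → H y y = 0 → H z y ≠ 0 → ∀ r s : k,
      (∀ v, F z v = r * τ (H z v)) → (∀ v, F v y = s * τ (H v y)) → r = s := by
    intro z _ _ y _ _ hne r s hr hs
    have e1 := hr y
    rw [hs z] at e1
    exact (mul_right_cancel₀ ((map_ne_zero τ).2 hne) e1).symm
  -- an isotropic vector not orthogonal to two given ones
  have hnorm : ∀ z, z ≠ 0 → H z z = 0 → ∃ y, y ≠ 0 ∧ H y y = 0 ∧ H z y ≠ 0 := by
    intro z hz hzz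
    obtain ⟨_, v₁, _, hv⟩ := hC.hyp z ⟨hz, hzz⟩
    obtain ⟨-, hv₁, -⟩ := hv 0
    rw [zero_smul, add_zero] at hv₁
    have hv₁' : H z v₁ = 1 := by rw [hherm, hv₁, one_pow]
    obtain ⟨c, hc⟩ := hpol.corr z v₁ hzz (by rw [hv₁]; exact one_ne_zero)
    have hz1 : H z (v₁ + c • z) = 1 := by rw [hadd', hsmul', hzz, hv₁', mul_zero, add_zero]
    refine ⟨v₁ + c • z, ?_, hc, by rw [hz1]; exact one_ne_zero⟩
    intro h3
    rw [h3] at hz1
    have h4 : H z 0 = 0 := by
      have := hsmul' 0 z 0
      rwa [zero_smul, zero_pow (pow_ne_zero _ hp.out.ne_zero), zero_mul] at this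
    rw [h4] at hz1
    exact zero_ne_one hz1
  -- elements of trace zero
  obtain ⟨κ, hκ0, hκ⟩ := exists_trace_zero hK hj
  have P4 : ∀ z, z ≠ 0 → H z z = 0 → ∃ y, y ≠ 0 ∧ H y y = 0 ∧ H z y ≠ 0 ∧ H e₁ y ≠ 0 := by
    intro z hz hzz
    obtain ⟨y₁, hy₁, hyy₁, hzy₁⟩ := hnorm z hz hzz
    by_cases h3 : H e₁ y₁ = 0
    swap
    · exact ⟨y₁, hy₁, hyy₁, hzy₁, h3⟩
    obtain ⟨y₂, hy₂, hyy₂, hey₂⟩ := hnorm e₁ he₁ h1
    by_cases h4 : H z y₂ = 0
    swap
    · exact ⟨y₂, hy₂, hyy₂, h4, hey₂⟩
    -- `y₁ + c y₂`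
    obtain ⟨c, hc0, hc⟩ : ∃ c : K, c ≠ 0 ∧ c * H y₂ y₁ + c ^ p ^ j * H y₁ y₂ = 0 := by
      by_cases h5 : H y₂ y₁ = 0
      · refine ⟨1, one_ne_zero, ?_⟩
        rw [hherm y₁ y₂, h5, zero_pow (pow_ne_zero _ hp.out.ne_zero), mul_zero, mul_zero, add_zero]
      · refine ⟨κ / H y₂ y₁, div_ne_zero hκ0 h5, ?_⟩
        rw [hherm y₁ y₂, ← mul_pow, div_mul_cancel₀ _ h5, hκ]
    have e1 : H z (y₁ + c • y₂) = H z y₁ := by rw [hadd', hsmul', h4, mul_zero, add_zero]
    have e2 : H e₁ (y₁ + c • y₂) = c ^ p ^ j * H e₁ y₂ := by rw [hadd', hsmul', h3, zero_add]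
    refine ⟨y₁ + c • y₂, ?_, ?_, by rw [e1]; exact hzy₁, by rw [e2]; exact mul_ne_zero (pow_ne_zero _ hc0) hey₂⟩
    · intro h5
      rw [h5] at e1
      have h4 : H z 0 = 0 := by
        have := hsmul' 0 z 0
        rwa [zero_smul, zero_pow (pow_ne_zero _ hp.out.ne_zero), zero_mul] at this
      rw [h4] at e1
      exact hzy₁ e1.symm
    · rw [hadd, hadd', hadd', hsmul, hsmul', hsmul, hsmul', hyy₁, hyy₂]
      linear_combination hc
  refine ⟨r, ?_⟩
  -- the vectors `u` with `F u v = r τ (H u v)` for all `v`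
  let L : Submodule K M :=
    { carrier := {u | ∀ v, F u v = r * τ (H u v)}
      zero_mem' := fun v => by
        have h3 : H 0 v = 0 := by
          have := hsmul 0 0 v
          rwa [zero_smul, zero_mul] at this
        rw [hF.zero_left, h3, map_zero, mul_zero]
      add_mem' := fun {u u'} hu hu' v => by
        rw [hF.add_left, hu v, hu' v, hadd, map_add, mul_add]
      smul_mem' := fun a u hu v => by
        rw [hF.smul_left, hu v, hsmul, map_mul]
        ring }
  have hS : ∀ z, H z z = 0 → z ∈ L := by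
    intro z hzz
    by_cases hz : z = 0
    · rw [hz]; exact zero_mem _
    obtain ⟨r', _, hr', -⟩ := P2 z hz hzz
    obtain ⟨y, hy, hyy, h3, h4⟩ := P4 z hz hzz
    obtain ⟨_, s, -, hs⟩ := P2 y hy hyy
    have e1 := P3 z hz hzz y hy hyy h3 r' s hr' hs
    have e2 := P3 e₁ he₁ h1 y hy hyy h4 r s hr hs
    intro v
    rw [e2, ← e1]
    exact hr' v
  intro u
  have hu : u ∈ L := by
    by_cases h3 : H u e₁ = 0
    · obtain ⟨y, hy, hyy, h4⟩ := hnorm e₁ he₁ h1
      have h5 : H (u + y) e₁ ≠ 0 := by
        rw [hadd, h3, zero_add, hherm]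
        exact pow_ne_zero _ h4
      obtain ⟨c, hc⟩ := hpol.corr e₁ (u + y) h1 h5
      have e1 : u = (u + y + c • e₁) - y - c • e₁ := by abel
      rw [e1]
      exact sub_mem (sub_mem (hS _ hc) (hS y hyy)) (Submodule.smul_mem _ _ (hS e₁ h1))
    · obtain ⟨c, hc⟩ := hpol.corr e₁ u h1 h3
      have e1 : u = (u + c • e₁) - c • e₁ := by abel
      rw [e1]
      exact sub_mem (hS _ hc) (Submodule.smul_mem _ _ (hS e₁ h1))
  exact hu

/-- **The rank of `H(x, y) ^ (1 + q₀)`** on the isotropic vectors is at least `d ^ 2 - 2`. -/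
theorem rk_herm_adj [Module.Finite K M] (hK : Nat.card K = p ^ (2 * j)) (hj : 0 < j)
    {α β : Type*} (y : α → Module.Dual K M)
    (hy : ∀ s, s ≠ 0 → H s s = 0 → ∃ a, ∃ c : K, c ≠ 0 ∧ ∀ v, y a v = c * H v s)
    (x : β → M) (hx : ∀ s, s ≠ 0 → H s s = 0 → ∃ a, ∃ c : K, c ≠ 0 ∧ x a = c • s) :
    Module.finrank K M ^ 2 ≤ rk (fun (a : α) (c : β) => τ (y a (x c)) ^ (1 + p ^ j)) + 2 := by
  classical
  have hadd' : ∀ x y z, H x (y + z) = H x y + H x z := by
    intro x y z
    rw [hherm, hadd, add_pow_char_pow, ← hherm, ← hherm]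
  have hsmul' : ∀ (a : K) x y, H x (a • y) = a ^ p ^ j * H x y := by
    intro a x y
    rw [hherm, hsmul, mul_pow, ← hherm]
  have hpj : p ^ j ≠ 0 := pow_ne_zero _ hp.out.ne_zero
  let b := Module.finBasis K M
  obtain ⟨d, hd⟩ := (pol_herm hK hj hadd hsmul hherm hnd).exists_dual b
  have hd' : ∀ i l, H (d l) (b i) = if i = l then 1 else 0 := by
    intro i l
    rw [hherm, hd]
    split_ifs
    · rw [one_pow]
    · rw [zero_pow hpj]
  have hcard : Module.finrank K M ^ 2 = Fintype.card (Fin (Module.finrank K M) × Fin (Module.finrank K M)) := by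
    rw [Fintype.card_prod, Fintype.card_fin, pow_two]
  rw [hcard]
  refine card_sub_two_le_rk _ (fun i a => τ (y a (b i.1)) * τ (y a (b i.2)) ^ p ^ j)
    (fun i c => τ (b.coord i.1 (x c)) * τ (b.coord i.2 (x c)) ^ p ^ j) ?_
    (cA := fun i => τ (H (d i.2) (d i.1))) (cC := fun i => τ (H (b i.1) (b i.2))) ?_ ?_
  · intro a c
    have e1 : y a (x c) = ∑ l, y a (b l) * b.coord l (x c) := by
      conv_lhs => rw [← b.sum_repr (x c)]
      rw [map_sum]
      refine Finset.sum_congr rfl fun l _ => ?_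
      rw [map_smul, smul_eq_mul, mul_comm]
      rfl
    rw [pow_add, pow_one, e1, map_sum, sum_pow_char_pow, Finset.sum_mul_sum, Fintype.sum_prod_type]
    refine Finset.sum_congr rfl fun i _ => Finset.sum_congr rfl fun l _ => ?_
    rw [map_mul, map_mul, mul_pow]
    ring
  · intro c hc
    -- the form
    have hF : Sesq p j τ (fun u v => ∑ i : Fin (Module.finrank K M) × Fin (Module.finrank K M),
        c i * (τ (H (b i.1) v) * τ (H u (b i.2)))) := by
      refine ⟨fun x y z => ?_, fun a x y => ?_, fun x y z => ?_, fun a x y => ?_⟩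
      · rw [← Finset.sum_add_distrib]
        refine Finset.sum_congr rfl fun i _ => ?_
        rw [hadd, map_add]; ring
      · rw [Finset.mul_sum]
        refine Finset.sum_congr rfl fun i _ => ?_
        rw [hsmul, map_mul]; ring
      · rw [← Finset.sum_add_distrib]
        refine Finset.sum_congr rfl fun i _ => ?_
        rw [hadd', map_add]; ring
      · rw [Finset.mul_sum]
        refine Finset.sum_congr rfl fun i _ => ?_
        rw [hsmul', map_mul, map_pow]; ring
    obtain ⟨r, hr⟩ := sesq_eq hadd hsmul hherm hnd h1 h2 h12 hind hK hj hF (by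
      intro s hs
      by_cases hs0 : s = 0
      · rw [hs0]; exact hF.zero_left 0
      obtain ⟨a, c', hc', hv⟩ := hy s hs0 hs
      have h3 := hc a
      have h4 : ∑ i, c i * (τ (y a (b i.1)) * τ (y a (b i.2)) ^ p ^ j) =
          (τ c' * τ c' ^ p ^ j) * ∑ i : Fin (Module.finrank K M) × Fin (Module.finrank K M),
            c i * (τ (H (b i.1) s) * τ (H s (b i.2))) := by
        rw [Finset.mul_sum]
        refine Finset.sum_congr rfl fun i _ => ?_
        rw [hv, hv, map_mul, map_mul, mul_pow, ← map_pow τ (H (b i.2) s), ← hherm s (b i.2)]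
        ring
      rw [h4] at h3
      exact (mul_eq_zero.1 h3).resolve_left (mul_ne_zero ((map_ne_zero τ).2 hc')
        (pow_ne_zero _ ((map_ne_zero τ).2 hc'))))
    refine ⟨r, ?_⟩
    funext i₀
    have h3 := hr (d i₀.2) (d i₀.1)
    rw [Pi.smul_apply, smul_eq_mul, ← h3, Finset.sum_eq_single i₀]
    · rw [hd, hd', if_pos rfl, if_pos rfl, map_one, mul_one, mul_one]
    · intro i _ hne
      rw [hd, hd']
      by_cases h5 : i.1 = i₀.1
      · have h6 : i.2 ≠ i₀.2 := fun h6 => hne (Prod.ext h5 h6)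
        rw [if_neg h6, map_zero, mul_zero, mul_zero]
      · rw [if_neg h5, map_zero, zero_mul, mul_zero]
    · intro h'
      exact absurd (mem_univ _) h'
  · intro c hc
    have hF : Sesq p j τ (fun u v => ∑ i : Fin (Module.finrank K M) × Fin (Module.finrank K M),
        c i * (τ (b.coord i.1 u) * τ (b.coord i.2 v) ^ p ^ j)) := by
      refine ⟨fun x y z => ?_, fun a x y => ?_, fun x y z => ?_, fun a x y => ?_⟩
      · rw [← Finset.sum_add_distrib]
        refine Finset.sum_congr rfl fun i _ => ?_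
        rw [map_add, map_add]; ring
      · rw [Finset.mul_sum]
        refine Finset.sum_congr rfl fun i _ => ?_
        rw [map_smul, smul_eq_mul, map_mul]; ring
      · rw [← Finset.sum_add_distrib]
        refine Finset.sum_congr rfl fun i _ => ?_
        rw [map_add, map_add, add_pow_char_pow]; ring
      · rw [Finset.mul_sum]
        refine Finset.sum_congr rfl fun i _ => ?_
        rw [map_smul, smul_eq_mul, map_mul, mul_pow]; ring
    obtain ⟨r, hr⟩ := sesq_eq hadd hsmul hherm hnd h1 h2 h12 hind hK hj hF (by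
      intro s hs
      by_cases hs0 : s = 0
      · rw [hs0]; exact hF.zero_left 0
      obtain ⟨a, c', hc', hv⟩ := hx s hs0 hs
      have h3 := hc a
      have h4 : ∑ i, c i * (τ (b.coord i.1 (x a)) * τ (b.coord i.2 (x a)) ^ p ^ j) =
          (τ c' * τ c' ^ p ^ j) * ∑ i : Fin (Module.finrank K M) × Fin (Module.finrank K M),
            c i * (τ (b.coord i.1 s) * τ (b.coord i.2 s) ^ p ^ j) := by
        rw [Finset.mul_sum]
        refine Finset.sum_congr rfl fun i _ => ?_
        rw [hv, (b.coord i.1).map_smul, (b.coord i.2).map_smul, smul_eq_mul, smul_eq_mul, map_mul, map_mul, mul_pow]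
        ring
      rw [h4] at h3
      exact (mul_eq_zero.1 h3).resolve_left (mul_ne_zero ((map_ne_zero τ).2 hc')
        (pow_ne_zero _ ((map_ne_zero τ).2 hc'))))
    refine ⟨r, ?_⟩
    funext i₀
    have h3 := hr (b i₀.1) (b i₀.2)
    have hcoord : ∀ i l, b.coord i (b l) = if i = l then 1 else 0 := by
      intro i l
      rw [Module.Basis.coord_apply, Module.Basis.repr_self, Finsupp.single_apply]
      simp only [eq_comm]
    rw [Pi.smul_apply, smul_eq_mul, ← h3, Finset.sum_eq_single i₀]
    · rw [hcoord, hcoord, if_pos rfl, if_pos rfl, map_one, one_pow, mul_one, mul_one]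
    · intro i _ hne
      rw [hcoord, hcoord]
      by_cases h5 : i.1 = i₀.1
      · have h6 : i.2 ≠ i₀.2 := fun h6 => hne (Prod.ext h5 h6)
        rw [if_neg h6, map_zero, zero_pow hpj, mul_zero, mul_zero]
      · rw [if_neg h5, map_zero, zero_mul, mul_zero]
    · intro h'
      exact absurd (mem_univ _) h'

end sesq

end Cfsg.Agent.H353.Ker
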