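import Cfsg.Agent.H353.Ker.Rank

/-!
# Products of Frobenius twists on a cone (helper353, for TEAM PPD, task PPD-Q (2), (3))

`K` a finite field with `p ^ e` elements, `M` a `K`-space, `σ : K →+* k`, `𝒮 ⊆ M` a cone (the singular vectors of a form)
with functionals `B x`, `x ∈ 𝒮`.

* `MS σ p T f` : `f : (ℕ → M) → k` depends on the variables `t ∈ T` and is semilinear in the variable `t` with
  respect to `a ↦ σ a ^ p ^ t`;
* `Cone p j 𝒮 B` : the geometry;
* **`MS.eq_zero`** : if `f (x, …, x) = 0` for `x ∈ 𝒮`, then `f = 0`;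
* `indep` : the functions `x ↦ ∏ t ∈ T, σ (L (i t) x) ^ p ^ t` are linearly independent on `𝒮`;
* **`rk_cone`** : the matrix `(σ (B z x) ^ ∑ t ∈ T, p ^ t)` has rank `d ^ |T|`.
-/

set_option autoImplicit false
set_option linter.unusedSectionVars false
set_option linter.style.haveILetI false

namespace Cfsg.Agent.H353.Ker

open Finset Function Polynomial

variable {K : Type*} [Field K] {k : Type*} [Field k] {M : Type*} [AddCommGroup M] [Module K M]

/-- `f` is a multisemilinear form in the variables `t ∈ T`. -/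
structure MS (σ : K →+* k) (p : ℕ) (T : Finset ℕ) (f : (ℕ → M) → k) : Prop where
  dep : ∀ x y : ℕ → M, (∀ t ∈ T, x t = y t) → f x = f y
  add : ∀ t ∈ T, ∀ (x : ℕ → M) (u v : M), f (update x t (u + v)) = f (update x t u) + f (update x t v)
  smul : ∀ t ∈ T, ∀ (x : ℕ → M) (a : K) (u : M), f (update x t (a • u)) = σ a ^ p ^ t * f (update x t u)

/-- the assignment `y` on `S`, `x` elsewhere -/
def mix (S : Finset ℕ) (x y : M) : ℕ → M := fun t => if t ∈ S then y else x

variable {σ : K →+* k} {p : ℕ} {T : Finset ℕ} {f g : (ℕ → M) → k}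

theorem MS.fix {t₀ : ℕ} (h : MS σ p (insert t₀ T) f) (ht : t₀ ∉ T) (y : M) :
    MS σ p T (fun x => f (update x t₀ y)) where
  dep x x' hx := by
    refine h.dep _ _ fun t ht' => ?_
    rcases Finset.mem_insert.1 ht' with rfl | ht'
    · rw [update_self, update_self]
    · have hne : t ≠ t₀ := fun e => ht (e ▸ ht')
      rw [update_of_ne hne, update_of_ne hne, hx t ht']
  add t ht' x u v := by
    have hne : t ≠ t₀ := fun e => ht (e ▸ ht')
    rw [update_comm hne, update_comm hne, update_comm hne]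
    exact h.add t (Finset.mem_insert_of_mem ht') _ _ _
  smul t ht' x a u := by
    have hne : t ≠ t₀ := fun e => ht (e ▸ ht')
    rw [update_comm hne, update_comm hne]
    exact h.smul t (Finset.mem_insert_of_mem ht') _ _ _

/-- expansion -/
theorem MS.expand (h : MS σ p T f) (x y : M) (a : K) :
    f (fun _ => x + a • y) = ∑ S ∈ T.powerset, σ a ^ (∑ t ∈ S, p ^ t) * f (mix S x y) := by
  induction T using Finset.induction_on generalizing f with
  | empty =>
    rw [Finset.powerset_empty, Finset.sum_singleton, Finset.sum_empty, pow_zero, one_mul]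
    exact h.dep _ _ fun t ht => absurd ht (Finset.notMem_empty t)
  | insert t₀ T ht ih =>
    have e1 : f (fun _ => x + a • y) = f (update (fun _ => x + a • y) t₀ x) +
        σ a ^ p ^ t₀ * f (update (fun _ => x + a • y) t₀ y) := by
      rw [← h.smul t₀ (Finset.mem_insert_self _ _), ← h.add t₀ (Finset.mem_insert_self _ _)]
      rw [update_eq_self_iff.2 rfl]
    rw [e1, ih (h.fix ht x), ih (h.fix ht y), Finset.sum_powerset_insert ht, Finset.mul_sum]
    congr 1
    · refine Finset.sum_congr rfl fun S hS => ?_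
      congr 2
      funext t
      by_cases hte : t = t₀
      · subst hte
        have : t ∉ S := fun h' => ht (Finset.mem_powerset.1 hS h')
        rw [update_self, mix, if_neg this]
      · rw [update_of_ne hte]
    · refine Finset.sum_congr rfl fun S hS => ?_
      have hn : t₀ ∉ S := fun h' => ht (Finset.mem_powerset.1 hS h')
      rw [Finset.sum_insert hn, pow_add, mul_assoc]
      congr 3
      funext t
      by_cases hte : t = t₀
      · subst hte
        rw [update_self, mix, if_pos (Finset.mem_insert_self _ _)]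
      · rw [update_of_ne hte]
        by_cases htS : t ∈ S
        · rw [mix, mix, if_pos htS, if_pos (Finset.mem_insert_of_mem htS)]
        · rw [mix, mix, if_neg htS, if_neg (by
            rw [Finset.mem_insert]
            rintro (h' | h')
            · exact hte h'
            · exact htS h')]

/-- the polynomial of the expansion -/
noncomputable def ex (p : ℕ) (T : Finset ℕ) (f : (ℕ → M) → k) (x y : M) : k[X] :=
  ∑ S ∈ T.powerset, monomial (∑ t ∈ S, p ^ t) (f (mix S x y))

theorem MS.eval_ex (h : MS σ p T f) (x y : M) (a : K) : (ex p T f x y).eval (σ a) = f (fun _ => x + a • y) := by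
  rw [h.expand, ex, eval_finsetSum]
  refine Finset.sum_congr rfl fun S _ => ?_
  rw [eval_monomial, mul_comm]

theorem coeff_ex (hp : 2 ≤ p) (f : (ℕ → M) → k) (x y : M) {S : Finset ℕ} (hS : S ⊆ T) :
    (ex p T f x y).coeff (∑ t ∈ S, p ^ t) = f (mix S x y) := by
  rw [ex, finsetSum_coeff, Finset.sum_eq_single S]
  · rw [coeff_monomial, if_pos rfl]
  · intro S' _ hne
    rw [coeff_monomial, if_neg fun e => hne (Finset.geomSum_injective hp e)]
  · intro h'
    exact absurd (Finset.mem_powerset.2 hS) h'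

theorem coeff_ex_zero (hp : 2 ≤ p) (f : (ℕ → M) → k) (x y : M) {S : Finset ℕ} (hS : ¬ S ⊆ T) :
    (ex p T f x y).coeff (∑ t ∈ S, p ^ t) = 0 := by
  rw [ex, finsetSum_coeff]
  refine Finset.sum_eq_zero fun S' hS' => ?_
  rw [coeff_monomial, if_neg fun e => hS ?_]
  rw [← Finset.geomSum_injective hp e]
  exact Finset.mem_powerset.1 hS'

theorem natDegree_ex_le (f : (ℕ → M) → k) (x y : M) : (ex p T f x y).natDegree ≤ ∑ t ∈ T, p ^ t := by
  rw [ex]
  refine natDegree_sum_le_of_forall_le _ _ fun S hS => ?_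
  refine (natDegree_monomial_le _).trans ?_
  exact Finset.sum_le_sum_of_subset (Finset.mem_powerset.1 hS)

theorem sum_lt {e : ℕ} (hp : 2 ≤ p) (hT : ∀ t ∈ T, t < e) : ∑ t ∈ T, p ^ t < p ^ e :=
  Nat.geomSum_lt hp hT

variable [Finite K]

theorem poly_zero {P : k[X]} (hP : P.natDegree < Nat.card K) (h : ∀ a : K, P.eval (σ a) = 0) : P = 0 := by
  have : Fintype K := Fintype.ofFinite K
  rw [Nat.card_eq_fintype_card] at hP
  exact eq_zero_of_natDegree_lt_card_of_eval_eq_zero P σ.injective h hP

/-- **polarisation** -/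
theorem MS.polar {e : ℕ} (hp : 2 ≤ p) (hK : Nat.card K = p ^ e) (hT : ∀ t ∈ T, t < e) (h : MS σ p T f) {x y : M}
    (h0 : ∀ a : K, f (fun _ => x + a • y) = 0) {S : Finset ℕ} (hS : S ⊆ T) : f (mix S x y) = 0 := by
  have h1 : ex p T f x y = 0 := by
    refine poly_zero (σ := σ) ?_ fun a => by rw [h.eval_ex, h0 a]
    rw [hK]
    exact lt_of_le_of_lt (natDegree_ex_le f x y) (sum_lt hp hT)
  rw [← coeff_ex hp f x y hS, h1, coeff_zero]

/-- comparison of two forms -/
theorem MS.compare {e : ℕ} (hp : 2 ≤ p) (hK : Nat.card K = p ^ e) (hT : ∀ t ∈ T, t < e) (hf : MS σ p T f)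
    (hg : MS σ p T g) {x y : M} {s : ℕ} (hs : s < e) (hsT : s ∉ T)
    (h0 : ∀ a : K, f (fun _ => x + a • y) = σ a ^ p ^ s * g (fun _ => x + a • y)) : g (fun _ => x) = 0 := by
  have h1 : ex p T f x y - X ^ (p ^ s) * ex p T g x y = 0 := by
    refine poly_zero (σ := σ) ?_ fun a => by
      rw [eval_sub, eval_mul, eval_pow, eval_X, hf.eval_ex, hg.eval_ex, h0 a, sub_self]
    have h2 : ∑ t ∈ insert s T, p ^ t < p ^ e := sum_lt hp fun t ht => by
      rcases Finset.mem_insert.1 ht with rfl | ht
      · exact hs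
      · exact hT t ht
    rw [Finset.sum_insert hsT] at h2
    rw [hK]
    refine lt_of_le_of_lt (natDegree_sub_le _ _) (max_lt ?_ ?_)
    · exact lt_of_le_of_lt (natDegree_ex_le f x y) (by omega)
    · refine lt_of_le_of_lt natDegree_mul_le ?_
      rw [natDegree_X_pow]
      have := natDegree_ex_le (p := p) (T := T) g x y
      omega
  have h2 := congrArg (fun P => P.coeff (p ^ s)) h1
  simp only [coeff_sub, coeff_zero] at h2
  have h3 := coeff_ex_zero (T := T) hp f x y (S := {s}) (by
    rw [Finset.singleton_subset_iff]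
    exact hsT)
  rw [Finset.sum_singleton] at h3
  have h4 := coeff_ex (T := T) hp g x y (S := ∅) (Finset.empty_subset _)
  rw [Finset.sum_empty] at h4
  rw [h3, coeff_X_pow_mul', if_pos le_rfl, Nat.sub_self, h4, zero_sub, neg_eq_zero] at h2
  exact h2

/-- The geometry of the singular vectors. -/
structure Cone (p j : ℕ) (𝒮 : Set M) (B : M → M → K) : Prop where
  ne : 𝒮.Nonempty
  span : ∀ x ∈ 𝒮, ∀ y, B x y = 0 → y ∈ Submodule.span K {y | ∀ a : K, x + a • y ∈ 𝒮 ∨ x + a • y = 0}
  add : ∀ x y z, B x (y + z) = B x y + B x z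
  smul : ∀ x (a : K) y, B x (a • y) = a * B x y
  hyp : ∀ x ∈ 𝒮, ∃ u v w : M, ∀ a : K, x + a • u ∈ 𝒮 ∧ B (x + a • u) v = 1 ∧ B (x + a • u) w = a ^ p ^ j

variable {j : ℕ} {𝒮 : Set M} {B : M → M → K}

theorem pow_mod {e : ℕ} (hK : Nat.card K = p ^ e) (a : K) (n : ℕ) : a ^ p ^ n = a ^ p ^ (n % e) := by
  have key : ∀ m r : ℕ, a ^ p ^ (e * m + r) = a ^ p ^ r := by
    intro m r
    induction m with
    | zero => rw [mul_zero, zero_add]
    | succ m ih =>
      have e1 : e * (m + 1) + r = e + (e * m + r) := by ring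
      have e2 : a ^ p ^ e = a := by
        have : Fintype K := Fintype.ofFinite K
        rw [← hK, Nat.card_eq_fintype_card, FiniteField.pow_card]
      rw [e1, pow_add, pow_mul, e2, ih]
  conv_lhs => rw [← Nat.div_add_mod n e]
  exact key _ _

/-- **the theorem**: a form vanishing on the diagonal of the cone is zero -/
theorem MS.eq_zero {e : ℕ} (hp : 2 ≤ p) (hK : Nat.card K = p ^ e) (hC : Cone p j 𝒮 B) :
    ∀ (T : Finset ℕ), (∀ t ∈ T, t < e) → (∀ t ∈ T, (t + j) % e ∉ T.erase t) → ∀ f : (ℕ → M) → k,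
      MS σ p T f → (∀ x ∈ 𝒮, f (fun _ => x) = 0) → ∀ x, f x = 0 := by
  intro T
  induction T using Finset.induction_on with
  | empty =>
    intro _ _ f hf h0 x
    obtain ⟨z, hz⟩ := hC.ne
    rw [hf.dep x (fun _ => z) fun t ht => absurd ht (Finset.notMem_empty t)]
    exact h0 z hz
  | insert t₀ T ht ih =>
    intro hT hj f hf h0 x
    have hT' : ∀ t ∈ T, t < e := fun t h' => hT t (Finset.mem_insert_of_mem h')
    have ht₀ := hT t₀ (Finset.mem_insert_self _ _)
    -- the form vanishes at zero too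
    have h00 : f (fun _ => (0 : M)) = 0 := by
      have h1 := hf.smul t₀ (Finset.mem_insert_self _ _) (fun _ => 0) 0 0
      rw [zero_smul, update_eq_self_iff.2 rfl, map_zero, zero_pow (pow_ne_zero _ (by omega)), zero_mul] at h1
      exact h1
    have key : ∀ z ∈ 𝒮, ∀ y, f (update (fun _ => z) t₀ y) = 0 := by
      -- it vanishes on the kernel of `B z`
      have k1 : ∀ z ∈ 𝒮, ∀ y, B z y = 0 → f (update (fun _ => z) t₀ y) = 0 := by
        intro z hz y hy
        let L : Submodule K M :=
          { carrier := {y | f (update (fun _ => z) t₀ y) = 0}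
            zero_mem' := by
              have h1 := hf.smul t₀ (Finset.mem_insert_self _ _) (fun _ => z) 0 0
              rwa [zero_smul, map_zero, zero_pow (pow_ne_zero _ (by omega)), zero_mul] at h1
            add_mem' := by
              intro u v (hu : f _ = 0) (hv : f _ = 0)
              change f _ = 0
              rw [hf.add t₀ (Finset.mem_insert_self _ _), hu, hv, add_zero]
            smul_mem' := by
              intro a u (hu : f _ = 0)
              change f _ = 0
              rw [hf.smul t₀ (Finset.mem_insert_self _ _), hu, mul_zero] }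
        have hle : Submodule.span K {y | ∀ a : K, z + a • y ∈ 𝒮 ∨ z + a • y = 0} ≤ L := by
          rw [Submodule.span_le]
          intro y hy'
          have h1 := hf.polar hp hK hT (x := z) (y := y) (fun a => by
            rcases hy' a with h2 | h2
            · exact h0 _ h2
            · rw [h2]
              exact h00) (S := {t₀}) (by
            rw [Finset.singleton_subset_iff]
            exact Finset.mem_insert_self _ _)
          change f _ = 0
          rw [← h1]
          congr 1
          funext t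
          by_cases hte : t = t₀
          · subst hte
            rw [update_self, mix, if_pos (Finset.mem_singleton_self _)]
          · rw [update_of_ne hte, mix, if_neg (by rwa [Finset.mem_singleton])]
        exact hle (hC.span z hz y hy)
      -- so it is a multiple of `B z`
      have k2 : ∀ z ∈ 𝒮, ∀ v, B z v = 1 → ∀ y, f (update (fun _ => z) t₀ y) =
          σ (B z y) ^ p ^ t₀ * f (update (fun _ => z) t₀ v) := by
        intro z hz v hv y
        have h1 : B z (y + (-(B z y)) • v) = 0 := by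
          rw [hC.add, hC.smul, hv, mul_one, add_neg_cancel]
        have h2 := k1 z hz _ h1
        have h3 : f (update (fun _ => z) t₀ y) = f (update (fun _ => z) t₀ (y + (-(B z y)) • v)) +
            f (update (fun _ => z) t₀ ((B z y) • v)) := by
          rw [← hf.add t₀ (Finset.mem_insert_self _ _), neg_smul, neg_add_cancel_right]
        rw [h3, h2, zero_add, hf.smul t₀ (Finset.mem_insert_self _ _)]
      intro z hz y
      obtain ⟨u, v, w, huvw⟩ := hC.hyp z hz
      have h1 : ∀ a : K, (fun x => f (update x t₀ w)) (fun _ => z + a • u) =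
          σ a ^ p ^ ((t₀ + j) % e) * (fun x => f (update x t₀ v)) (fun _ => z + a • u) := by
        intro a
        obtain ⟨e1, e2, e3⟩ := huvw a
        have h2 := k2 _ e1 v e2 w
        simp only
        rw [h2, e3]
        congr 1
        rw [← map_pow, ← map_pow, ← pow_mod hK, ← pow_mul, ← pow_add, add_comm j]
      have hs : (t₀ + j) % e ∉ T := by
        have h2 := hj t₀ (Finset.mem_insert_self _ _)
        rwa [Finset.erase_insert ht] at h2
      have h2 := MS.compare hp hK hT' (hf.fix ht w) (hf.fix ht v) (Nat.mod_lt _ (by omega)) hs h1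
      obtain ⟨e1, e2, -⟩ := huvw 0
      rw [zero_smul, add_zero] at e1 e2
      rw [k2 z hz v e2 y, h2, mul_zero]
    have h1 := ih hT' (fun t h' => by
      intro hmem
      exact hj t (Finset.mem_insert_of_mem h') (Finset.erase_subset_erase _ (Finset.subset_insert _ _) hmem))
      (fun z => f (update z t₀ (x t₀))) (hf.fix ht (x t₀)) (fun z hz => key z hz _) x
    rwa [update_eq_self] at h1

/-! ### linear independence -/

section indep

variable {ι : Type*} [Fintype ι] [DecidableEq ι] {j' : ℕ} {L : ι → M → K} {e : ℕ}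

/-- the slot of the variable `t` -/
def slot (e j' : ℕ) (T : Finset ℕ) (t : T) : ℕ := ((t : ℕ) + j') % e

theorem slot_inj (hT : ∀ t ∈ T, t < e) : Injective (slot e j' T) := by
  intro a b hab
  have h1 : ((a : ℕ) + j') % e = ((b : ℕ) + j') % e := hab
  have h2 : (a : ℕ) ≡ b [MOD e] := Nat.ModEq.add_right_cancel' j' h1
  have h3 : (a : ℕ) % e = (b : ℕ) % e := h2
  rw [Nat.mod_eq_of_lt (hT a a.2), Nat.mod_eq_of_lt (hT b b.2)] at h3
  exact Subtype.ext h3

/-- the form with coefficients `c` -/
noncomputable def form (σ : K →+* k) (p e j' : ℕ) (T : Finset ℕ) (L : ι → M → K) (c : (T → ι) → k) (x : ℕ → M) : k :=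
  ∑ i : T → ι, c i * ∏ t : T, σ (L (i t) (x (slot e j' T t))) ^ p ^ (t : ℕ)

theorem prod_update (hT : ∀ t ∈ T, t < e) (i : T → ι) (x : ℕ → M) (t₁ : T) (u : M) :
    ∏ t : T, σ (L (i t) (update x (slot e j' T t₁) u (slot e j' T t))) ^ p ^ (t : ℕ) =
      σ (L (i t₁) u) ^ p ^ (t₁ : ℕ) *
        ∏ t ∈ (univ : Finset T).erase t₁, σ (L (i t) (x (slot e j' T t))) ^ p ^ (t : ℕ) := by
  rw [← Finset.mul_prod_erase univ _ (mem_univ t₁), update_self]
  congr 1
  refine Finset.prod_congr rfl fun t ht => ?_
  rw [update_of_ne fun h => (Finset.mem_erase.1 ht).1 (slot_inj hT h)]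

theorem ms_form [Fact p.Prime] [CharP k p] (hK : Nat.card K = p ^ e) (hT : ∀ t ∈ T, t < e)
    (hadd : ∀ i u v, L i (u + v) = L i u + L i v)
    (hsmul : ∀ i (a : K) u, L i (a • u) = a ^ p ^ j' * L i u) (c : (T → ι) → k) :
    MS σ p (univ.image (slot e j' T)) (form σ p e j' T L c) where
  dep x y hxy := by
    unfold form
    refine Finset.sum_congr rfl fun i _ => ?_
    congr 1
    refine Finset.prod_congr rfl fun t _ => ?_
    rw [hxy _ (Finset.mem_image_of_mem _ (mem_univ t))]
  add s hs x u v := by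
    obtain ⟨t₁, -, rfl⟩ := Finset.mem_image.1 hs
    unfold form
    rw [← Finset.sum_add_distrib]
    refine Finset.sum_congr rfl fun i _ => ?_
    rw [prod_update hT, prod_update hT, prod_update hT, hadd, map_add, add_pow_char_pow, add_mul, mul_add]
  smul s hs x a u := by
    obtain ⟨t₁, -, rfl⟩ := Finset.mem_image.1 hs
    unfold form
    rw [Finset.mul_sum]
    refine Finset.sum_congr rfl fun i _ => ?_
    have e1 : σ (a ^ p ^ j') ^ p ^ (t₁ : ℕ) = σ a ^ p ^ slot e j' T t₁ := by
      rw [← map_pow, ← map_pow, slot, ← pow_mod hK, ← pow_mul, ← pow_add, add_comm]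
    rw [prod_update hT, prod_update hT, hsmul, map_mul, mul_pow, e1]
    ring

/-- **linear independence** -/
theorem indep [Fact p.Prime] [CharP k p] (hK : Nat.card K = p ^ e) (hC : Cone p j 𝒮 B) (hT : ∀ t ∈ T, t < e)
    (hj : ∀ s ∈ univ.image (slot e j' T), (s + j) % e ∉ (univ.image (slot e j' T)).erase s)
    (hadd : ∀ i u v, L i (u + v) = L i u + L i v)
    (hsmul : ∀ i (a : K) u, L i (a • u) = a ^ p ^ j' * L i u) {d : ι → M}
    (hd : ∀ i l, L i (d l) = if i = l then 1 else 0) (c : (T → ι) → k)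
    (h0 : ∀ x ∈ 𝒮, ∑ i : T → ι, c i * ∏ t : T, σ (L (i t) x) ^ p ^ (t : ℕ) = 0) : c = 0 := by
  have hp : p.Prime := Fact.out
  have he : ∀ s ∈ univ.image (slot e j' T), s < e := by
    intro s hs
    obtain ⟨t, -, rfl⟩ := Finset.mem_image.1 hs
    exact Nat.mod_lt _ (lt_of_le_of_lt (Nat.zero_le _) (hT t t.2))
  have h1 := MS.eq_zero hp.two_le hK hC _ he hj _ (ms_form (σ := σ) hK hT hadd hsmul c) h0
  funext i₀
  have h2 := h1 (extend (slot e j' T) (fun t => d (i₀ t)) 0)
  unfold form at h2
  simp only [(slot_inj hT).extend_apply, hd] at h2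
  rw [Finset.sum_eq_single i₀] at h2
  · simpa using h2
  · intro i _ hne
    obtain ⟨t, ht⟩ : ∃ t, i t ≠ i₀ t := by
      by_contra hcon
      push Not at hcon
      exact hne (funext hcon)
    rw [Finset.prod_eq_zero (mem_univ t), mul_zero]
    rw [if_neg ht, map_zero, zero_pow (pow_ne_zero _ hp.ne_zero)]
  · intro h'
    exact absurd (mem_univ _) h'

/-- **The rank.** -/
theorem rk_cone [Fact p.Prime] [CharP k p] (hK : Nat.card K = p ^ e) (hC : Cone p j 𝒮 B) (hT : ∀ t ∈ T, t < e)
    (hj : ∀ t ∈ T, (t + j) % e ∉ T.erase t)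
    (hj' : ∀ s ∈ univ.image (slot e j T), (s + j) % e ∉ (univ.image (slot e j T)).erase s)
    (b : Module.Basis ι K M) (hB1 : ∀ z z' y, B (z + z') y = B z y + B z' y)
    (hB2 : ∀ (a : K) z y, B (a • z) y = a ^ p ^ j * B z y)
    {d : ι → M} (hd : ∀ i l, B (d l) (b i) = if i = l then 1 else 0)
    {α β : Type*} (y : α → Module.Dual K M) (hy : ∀ s ∈ 𝒮, ∃ a, ∃ c : K, c ≠ 0 ∧ ∀ v, y a v = c * B s v)
    (x : β → M) (hx : ∀ s ∈ 𝒮, ∃ a, ∃ c : K, c ≠ 0 ∧ x a = c • s) :
    rk (fun (a : α) (c : β) => σ (y a (x c)) ^ ∑ t ∈ T, p ^ t) = Fintype.card ι ^ T.card := by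
  have hcard : Fintype.card (T → ι) = Fintype.card ι ^ T.card := by
    rw [Fintype.card_fun, Fintype.card_coe]
  rw [← hcard]
  have him : univ.image (slot e 0 T) = T := by
    ext s
    rw [Finset.mem_image]
    constructor
    · rintro ⟨t, -, rfl⟩
      rw [slot, add_zero, Nat.mod_eq_of_lt (hT t t.2)]
      exact t.2
    · intro hs
      exact ⟨⟨s, hs⟩, mem_univ _, by rw [slot, add_zero, Nat.mod_eq_of_lt (hT s hs)]⟩
  refine rk_eq_of_factor _ (fun (i : T → ι) (a : α) => ∏ t : T, σ (y a (b (i t))) ^ p ^ (t : ℕ))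
    (fun (i : T → ι) (a : β) => ∏ t : T, σ (b.coord (i t) (x a)) ^ p ^ (t : ℕ)) ?_ ?_ ?_
  · intro a c
    have e1 : y a (x c) = ∑ l, y a (b l) * b.coord l (x c) := by
      conv_lhs => rw [← b.sum_repr (x c)]
      rw [map_sum]
      refine Finset.sum_congr rfl fun l _ => ?_
      rw [map_smul, smul_eq_mul, mul_comm]
      rfl
    rw [← Finset.prod_pow_eq_pow_sum, e1]
    have e2 : ∀ t : ℕ, σ (∑ l, y a (b l) * b.coord l (x c)) ^ p ^ t =
        ∑ l, σ (y a (b l)) ^ p ^ t * σ (b.coord l (x c)) ^ p ^ t := by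
      intro t
      rw [map_sum, sum_pow_char_pow]
      refine Finset.sum_congr rfl fun l _ => ?_
      rw [map_mul, mul_pow]
    simp only [e2]
    rw [← Finset.prod_coe_sort T, Finset.prod_univ_sum, Fintype.piFinset_univ]
    exact Finset.sum_congr rfl fun i _ => Finset.prod_mul_distrib
  · intro c hc
    refine indep (L := fun i z => B z (b i)) hK hC hT hj' (fun i u v => hB1 u v _) (fun i a u => hB2 a u _) hd c
      (σ := σ) fun s hs => ?_
    obtain ⟨a, r, hr, hv⟩ := hy s hs
    have h1 := hc a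
    have h2 : ∑ i : T → ι, c i * ∏ t : T, σ (y a (b (i t))) ^ p ^ (t : ℕ) =
        (∏ t : T, σ r ^ p ^ (t : ℕ)) * ∑ i : T → ι, c i * ∏ t : T, σ (B s (b (i t))) ^ p ^ (t : ℕ) := by
      rw [Finset.mul_sum]
      refine Finset.sum_congr rfl fun i _ => ?_
      rw [mul_left_comm, ← Finset.prod_mul_distrib]
      congr 1
      refine Finset.prod_congr rfl fun t _ => ?_
      rw [hv, map_mul, mul_pow]
    rw [h2] at h1
    refine (mul_eq_zero.1 h1).resolve_left ?_
    exact Finset.prod_ne_zero_iff.2 fun t _ => pow_ne_zero _ ((map_ne_zero σ).2 hr)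
  · intro c hc
    refine indep (L := fun i z => b.coord i z) (j' := 0) hK hC hT (by rw [him]; exact hj) (fun i u v => map_add _ _ _)
      (fun i a u => by rw [pow_zero, pow_one, map_smul, smul_eq_mul]) (d := b) (fun i l => ?_) c (σ := σ)
      fun s hs => ?_
    · rw [Module.Basis.coord_apply, Module.Basis.repr_self, Finsupp.single_apply]
      simp only [eq_comm]
    · obtain ⟨a, r, hr, hv⟩ := hx s hs
      have h1 := hc a
      have h2 : ∑ i : T → ι, c i * ∏ t : T, σ (b.coord (i t) (x a)) ^ p ^ (t : ℕ) =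
          (∏ t : T, σ r ^ p ^ (t : ℕ)) * ∑ i : T → ι, c i * ∏ t : T, σ (b.coord (i t) s) ^ p ^ (t : ℕ) := by
        rw [Finset.mul_sum]
        refine Finset.sum_congr rfl fun i _ => ?_
        rw [mul_left_comm, ← Finset.prod_mul_distrib]
        congr 1
        refine Finset.prod_congr rfl fun t _ => ?_
        rw [hv, map_smul, smul_eq_mul, map_mul, mul_pow]
      rw [h2] at h1
      refine (mul_eq_zero.1 h1).resolve_left ?_
      exact Finset.prod_ne_zero_iff.2 fun t _ => pow_ne_zero _ ((map_ne_zero σ).2 hr)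

end indep

end Cfsg.Agent.H353.Ker
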