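import Cfsg.Agent.H353.Ker.Rank

/-!
# Powers of the natural pairing (helper353, for TEAM PPD, task PPD-Q (1))

* `rk_pow` : `K` with `p ^ e` elements, `dim M = N`, `c = ∑ t < e, a t * p ^ t`, `a t < p`: the matrix
  `(σ (y x) ^ c)`, `x ∈ M`, `y ∈ M*`, has rank `∏ t < e, C(N + a t - 1, a t)`.
-/

set_option autoImplicit false
set_option linter.unusedSectionVars false
set_option linter.style.haveILetI false

namespace Cfsg.Agent.H353.Ker

open Finset Function

/-- uniqueness of digits -/
theorem digits_unique {p : ℕ} (hp : 0 < p) : ∀ {e : ℕ} {u v : Fin e → ℕ}, (∀ t, u t < p) → (∀ t, v t < p) →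
    ∑ t : Fin e, p ^ (t : ℕ) * u t = ∑ t : Fin e, p ^ (t : ℕ) * v t → u = v := by
  intro e
  induction e with
  | zero =>
    intro u v _ _ _
    exact Subsingleton.elim _ _
  | succ e ih =>
    intro u v hu hv h
    have key : ∀ w : Fin (e + 1) → ℕ, ∑ t : Fin (e + 1), p ^ (t : ℕ) * w t =
        w 0 + p * ∑ t : Fin e, p ^ (t : ℕ) * w t.succ := by
      intro w
      rw [Fin.sum_univ_succ, Fin.val_zero, pow_zero, one_mul, Finset.mul_sum]
      congr 1
      refine Finset.sum_congr rfl fun t _ => ?_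
      rw [Fin.val_succ, pow_succ]
      ring
    rw [key u, key v] at h
    have h0 : u 0 = v 0 := by
      have h1 := congrArg (· % p) h
      simp only [Nat.add_mul_mod_self_left] at h1
      rwa [Nat.mod_eq_of_lt (hu 0), Nat.mod_eq_of_lt (hv 0)] at h1
    have h2 : ∑ t : Fin e, p ^ (t : ℕ) * u t.succ = ∑ t : Fin e, p ^ (t : ℕ) * v t.succ := by
      rw [h0] at h
      exact Nat.eq_of_mul_eq_mul_left hp (Nat.add_left_cancel h)
    have h3 := ih (fun t => hu t.succ) (fun t => hv t.succ) h2
    funext t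
    refine Fin.cases h0 (fun t => ?_) t
    exact congrFun h3 t

section mono

variable {K : Type*} [Field K] [Finite K] {k : Type*} [Field k] (σ : K →+* k)
  {ι : Type*} [Fintype ι] [DecidableEq ι] {S : Type*} [Fintype S] [DecidableEq S]

/-- linear independence of the monomials of degree `< |K|` in each variable -/
theorem mono_indep {m : S → ι → ℕ} (hm : Injective m) (hd : ∀ s i, m s i < Nat.card K) {c : S → k}
    (h : ∀ v : ι → K, ∑ s, c s * ∏ i, σ (v i) ^ m s i = 0) : c = 0 := by
  classical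
  have : Fintype K := Fintype.ofFinite K
  rw [Nat.card_eq_fintype_card] at hd
  let P : MvPolynomial ι k := ∑ s, MvPolynomial.monomial (Finsupp.equivFunOnFinite.symm (m s)) (c s)
  have hP : P = 0 := by
    refine MvPolynomial.eq_zero_of_eval_zero_at_prod_finset P (fun _ => univ.image σ) (fun i => ?_) fun x hx => ?_
    · rw [Finset.card_image_of_injective _ σ.injective, Finset.card_univ]
      refine lt_of_le_of_lt (MvPolynomial.degreeOf_sum_le i univ _) ?_
      rw [Finset.sup_lt_iff (lt_of_le_of_lt (Nat.zero_le _) (Fintype.card_pos (α := K)))]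
      intro s _
      refine lt_of_le_of_lt ?_ (hd s i)
      by_cases h0 : c s = 0
      · rw [h0, MvPolynomial.monomial_zero, MvPolynomial.degreeOf_zero]
        exact Nat.zero_le _
      · rw [MvPolynomial.degreeOf_monomial_eq _ _ h0]
        exact le_rfl
    · choose v hv using fun i => (Finset.mem_image.1 (hx i))
      have h1 := h v
      rw [map_sum]
      rw [← h1]
      refine Finset.sum_congr rfl fun s _ => ?_
      rw [MvPolynomial.eval_monomial, Finsupp.prod_fintype _ _ (fun _ => pow_zero _)]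
      congr 1
      refine Finset.prod_congr rfl fun i _ => ?_
      rw [(hv i).2]
      rfl
  funext s
  have h1 := congrArg (MvPolynomial.coeff (Finsupp.equivFunOnFinite.symm (m s))) hP
  rw [MvPolynomial.coeff_sum, MvPolynomial.coeff_zero, Finset.sum_eq_single s] at h1
  · rwa [MvPolynomial.coeff_monomial, if_pos rfl] at h1
  · intro s' _ hne
    rw [MvPolynomial.coeff_monomial, if_neg fun e => hne (hm (Finsupp.equivFunOnFinite.symm.injective e))]
  · intro h'
    exact absurd (mem_univ s) h'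

end mono

/-! ### the index set -/

section index

variable {ι : Type*} [Fintype ι] [DecidableEq ι] {e : ℕ} {a : Fin e → ℕ}

theorem card_anti (n : ℕ) : (piAntidiag (univ : Finset ι) n).card = (Fintype.card ι + n - 1).choose n := by
  have h1 := Finset.map_sym_eq_piAntidiag (univ : Finset ι) n
  rw [← h1, Finset.card_map, Finset.sym_univ, Finset.card_univ, Sym.card_sym_eq_choose]

variable (ι) (a) in
/-- the exponents -/
abbrev Ix : Type _ := (t : Fin e) → ↥(piAntidiag (univ : Finset ι) (a t))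

theorem card_ix : Fintype.card (Ix ι a) = ∏ t, (Fintype.card ι + a t - 1).choose (a t) := by
  rw [Fintype.card_pi]
  refine Finset.prod_congr rfl fun t _ => ?_
  rw [Fintype.card_coe, card_anti]

theorem ix_sum (s : Ix ι a) (t : Fin e) : ∑ i, (s t : ι → ℕ) i = a t := (mem_piAntidiag.1 (s t).2).1

theorem ix_le (s : Ix ι a) (t : Fin e) (i : ι) : (s t : ι → ℕ) i ≤ a t := by
  have h1 : (s t : ι → ℕ) i ≤ ∑ i, (s t : ι → ℕ) i :=
    Finset.single_le_sum (fun _ _ => Nat.zero_le _) (mem_univ i)
  exact h1.trans (ix_sum s t).le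

/-- the exponents of the monomial -/
def ex' (p : ℕ) (s : Ix ι a) (i : ι) : ℕ := ∑ t : Fin e, p ^ (t : ℕ) * (s t : ι → ℕ) i

theorem ex'_inj {p : ℕ} (ha : ∀ t, a t < p) : Injective (ex' (ι := ι) (a := a) p) := by
  intro s s' h
  funext t
  apply Subtype.ext
  funext i
  have h1 : ∑ t : Fin e, p ^ (t : ℕ) * (s t : ι → ℕ) i = ∑ t : Fin e, p ^ (t : ℕ) * (s' t : ι → ℕ) i := congrFun h i
  exact congrFun (digits_unique (lt_of_le_of_lt (Nat.zero_le _) (ha t))
    (fun t => lt_of_le_of_lt (ix_le s t i) (ha t)) (fun t => lt_of_le_of_lt (ix_le s' t i) (ha t)) h1) t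

theorem sum_ex' (p : ℕ) (s : Ix ι a) : ∑ i, ex' p s i = ∑ t : Fin e, a t * p ^ (t : ℕ) := by
  unfold ex'
  rw [Finset.sum_comm]
  refine Finset.sum_congr rfl fun t _ => ?_
  rw [← Finset.mul_sum, ix_sum, mul_comm]

theorem ex'_le (p : ℕ) (s : Ix ι a) (i : ι) : ex' p s i ≤ ∑ t : Fin e, a t * p ^ (t : ℕ) := by
  rw [← sum_ex' p s]
  exact Finset.single_le_sum (fun _ _ => Nat.zero_le _) (mem_univ i)

theorem sum_digits_lt {p : ℕ} (ha : ∀ t, a t < p) : ∑ t : Fin e, a t * p ^ (t : ℕ) < p ^ e := by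
  induction e with
  | zero => rw [Finset.univ_eq_empty, Finset.sum_empty, pow_zero]; exact one_pos
  | succ e ih =>
    rw [Fin.sum_univ_castSucc]
    have h1 := ih (a := fun t => a t.castSucc) (fun t => ha _)
    have h2 := ha (Fin.last e)
    simp only [Fin.val_castSucc, Fin.val_last] at h1 ⊢
    calc _ < p ^ e + a (Fin.last e) * p ^ e := by omega
      _ = (a (Fin.last e) + 1) * p ^ e := by ring
      _ ≤ p * p ^ e := Nat.mul_le_mul_right _ h2
      _ = p ^ (e + 1) := by rw [pow_succ, mul_comm]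

end index

section main

variable {K : Type*} [Field K] [Finite K] {k : Type*} [Field k] (σ : K →+* k)
  {M : Type*} [AddCommGroup M] [Module K M] {p : ℕ} [hp : Fact p.Prime] [CharP k p]

theorem multinomial_ne_zero {ι : Type*} [Fintype ι] [DecidableEq ι] {f : ι → ℕ} (h : ∑ i, f i < p) :
    ((Nat.multinomial univ f : ℕ) : k) ≠ 0 := by
  intro h0
  rw [CharP.cast_eq_zero_iff k p] at h0
  have h1 := Nat.multinomial_spec univ f
  have h2 : p ∣ (∑ i, f i).factorial := by
    rw [← h1]
    exact h0.mul_left _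
  rw [hp.out.dvd_factorial] at h2
  omega

/-- **The rank of the powers of the natural pairing.** -/
theorem rk_pow_basis {ι : Type*} [Fintype ι] [DecidableEq ι] {e : ℕ} (hK : Nat.card K = p ^ e)
    (bs : Module.Basis ι K M) {a : Fin e → ℕ} (ha : ∀ t, a t < p) {c : ℕ}
    (hc : c = ∑ t : Fin e, a t * p ^ (t : ℕ)) (hc0 : c ≠ 0) {α β : Type*} (y : α → Module.Dual K M)
    (hy : ∀ φ : Module.Dual K M, φ ≠ 0 → ∃ i, ∃ r : K, r ≠ 0 ∧ y i = r • φ)
    (x : β → M) (hx : ∀ v : M, v ≠ 0 → ∃ i, ∃ r : K, r ≠ 0 ∧ x i = r • v) :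
    rk (fun (i : α) (l : β) => σ (y i (x l)) ^ c) = ∏ t : Fin e, (Fintype.card ι + a t - 1).choose (a t) := by
  rw [← card_ix]
  have hd : ∀ (s : Ix ι a) i, ex' p s i < Nat.card K := fun s i => by
    rw [hK]
    exact lt_of_le_of_lt (ex'_le p s i) (sum_digits_lt ha)
  have hdeg : ∀ (s : Ix ι a) (r : k) (v : ι → k), ∏ i, (r * v i) ^ ex' p s i = r ^ c * ∏ i, v i ^ ex' p s i := by
    intro s r v
    simp only [mul_pow]
    rw [Finset.prod_mul_distrib, Finset.prod_pow_eq_pow_sum, sum_ex' p s, ← hc]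
  have h00 : ∀ s : Ix ι a, ∏ i : ι, σ 0 ^ ex' p s i = 0 := by
    intro s
    rw [Finset.prod_pow_eq_pow_sum, sum_ex' p s, ← hc, map_zero, zero_pow hc0]
  refine rk_eq_of_factor _
    (fun (s : Ix ι a) (i : α) => (∏ t : Fin e, ((Nat.multinomial univ (s t : ι → ℕ) : ℕ) : k)) *
      ∏ l, σ (y i (bs l)) ^ ex' p s l)
    (fun (s : Ix ι a) (i : β) => ∏ l, σ (bs.coord l (x i)) ^ ex' p s l) ?_ ?_ ?_
  · intro i j
    have e1 : y i (x j) = ∑ l, y i (bs l) * bs.coord l (x j) := by
      conv_lhs => rw [← bs.sum_repr (x j)]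
      rw [map_sum]
      refine Finset.sum_congr rfl fun l _ => ?_
      rw [map_smul, smul_eq_mul, mul_comm]
      rfl
    have e2 : ∀ t : ℕ, σ (y i (x j)) ^ p ^ t = ∑ l, (σ (y i (bs l)) * σ (bs.coord l (x j))) ^ p ^ t := by
      intro t
      rw [e1, map_sum, sum_pow_char_pow]
      simp only [map_mul]
    have e3 : σ (y i (x j)) ^ c = ∏ t : Fin e, ∑ κ : ↥(piAntidiag (univ : Finset ι) (a t)),
        ((Nat.multinomial univ (κ : ι → ℕ) : ℕ) : k) *
          ∏ l, ((σ (y i (bs l)) * σ (bs.coord l (x j))) ^ p ^ (t : ℕ)) ^ (κ : ι → ℕ) l := by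
      rw [hc, ← Finset.prod_pow_eq_pow_sum]
      refine Finset.prod_congr rfl fun t _ => ?_
      rw [mul_comm, pow_mul, e2, Finset.sum_pow_eq_sum_piAntidiag, ← Finset.sum_coe_sort (piAntidiag univ (a t))]
    rw [e3, Finset.prod_univ_sum, Fintype.piFinset_univ]
    refine Finset.sum_congr rfl fun s _ => ?_
    rw [Finset.prod_mul_distrib, mul_assoc]
    congr 1
    rw [← Finset.prod_mul_distrib, Finset.prod_comm]
    refine Finset.prod_congr rfl fun l _ => ?_
    rw [← mul_pow, ex', ← Finset.prod_pow_eq_pow_sum]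
    refine Finset.prod_congr rfl fun t _ => ?_
    rw [← pow_mul]
  · intro f hf
    have h1 : (fun s : Ix ι a => f s * ∏ t : Fin e, ((Nat.multinomial univ (s t : ι → ℕ) : ℕ) : k)) = 0 := by
      refine mono_indep σ (ex'_inj ha) hd fun v => ?_
      by_cases hv : v = 0
      · subst hv
        refine Finset.sum_eq_zero fun s _ => ?_
        rw [Pi.zero_def, h00 s, mul_zero]
      · -- the functional with the values `v`
        have hφ : bs.constr K v ≠ 0 := by
          intro h0
          apply hv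
          funext l
          rw [← bs.constr_basis K v l, h0]
          rfl
        obtain ⟨i, r, hr, hi⟩ := hy (bs.constr K v) hφ
        have h2 := hf i
        have h3 : ∀ l, σ (y i (bs l)) = σ r * σ (v l) := fun l => by
          rw [hi, LinearMap.smul_apply, bs.constr_basis, smul_eq_mul, map_mul]
        simp only [h3, hdeg] at h2
        have h4 : σ r ^ c * ∑ s : Ix ι a, (f s * ∏ t : Fin e, ((Nat.multinomial univ (s t : ι → ℕ) : ℕ) : k)) *
            ∏ l, σ (v l) ^ ex' p s l = 0 := by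
          rw [← h2, Finset.mul_sum]
          refine Finset.sum_congr rfl fun s _ => ?_
          ring
        exact (mul_eq_zero.1 h4).resolve_left (pow_ne_zero _ ((map_ne_zero σ).2 hr))
    funext s
    have h2 := congrFun h1 s
    refine (mul_eq_zero.1 h2).resolve_right (Finset.prod_ne_zero_iff.2 fun t _ => ?_)
    exact multinomial_ne_zero (p := p) (by rw [ix_sum]; exact ha t)
  · intro f hf
    refine mono_indep σ (ex'_inj ha) hd fun v => ?_
    by_cases hv : v = 0
    · subst hv
      refine Finset.sum_eq_zero fun s _ => ?_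
      rw [Pi.zero_def, h00 s, mul_zero]
    · have hw : bs.equivFun.symm v ≠ 0 := by
        intro h0
        exact hv (bs.equivFun.symm.injective (h0.trans (map_zero _).symm))
      obtain ⟨i, r, hr, hi⟩ := hx _ hw
      have h2 := hf i
      have h3 : ∀ l, σ (bs.coord l (x i)) = σ r * σ (v l) := fun l => by
        rw [hi, map_smul, smul_eq_mul, map_mul]
        congr 2
        rw [Module.Basis.coord_apply, ← Module.Basis.equivFun_apply, LinearEquiv.apply_symm_apply]
      simp only [h3, hdeg] at h2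
      have h4 : σ r ^ c * ∑ s : Ix ι a, f s * ∏ l, σ (v l) ^ ex' p s l = 0 := by
        rw [← h2, Finset.mul_sum]
        refine Finset.sum_congr rfl fun s _ => ?_
        ring
      exact (mul_eq_zero.1 h4).resolve_left (pow_ne_zero _ ((map_ne_zero σ).2 hr))

theorem sum_digits {p : ℕ} (hp : 0 < p) : ∀ (e c : ℕ), c < p ^ e → c = ∑ t : Fin e, (c / p ^ (t : ℕ) % p) * p ^ (t : ℕ) := by
  intro e
  induction e with
  | zero =>
    intro c hc
    rw [pow_zero] at hc
    rw [Finset.univ_eq_empty, Finset.sum_empty]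
    omega
  | succ e ih =>
    intro c hc
    rw [Fin.sum_univ_succ, Fin.val_zero, pow_zero, Nat.div_one, mul_one]
    have h1 : c / p < p ^ e := by
      rw [Nat.div_lt_iff_lt_mul hp]
      rwa [pow_succ] at hc
    have h2 : ∑ t : Fin e, (c / p ^ ((t.succ : Fin (e + 1)) : ℕ) % p) * p ^ ((t.succ : Fin (e + 1)) : ℕ) =
        p * (c / p) := by
      conv_rhs => rw [ih _ h1, Finset.mul_sum]
      refine Finset.sum_congr rfl fun t _ => ?_
      rw [Fin.val_succ, pow_succ', ← Nat.div_div_eq_div_mul]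
      ring
    rw [h2, Nat.mod_add_div]

/-- **The rank of the powers of the natural pairing**, with the digits of `c`. -/
theorem rk_pow [Module.Finite K M] {e : ℕ} (hK : Nat.card K = p ^ e) {c : ℕ} (hc : c < p ^ e) (hc0 : c ≠ 0)
    {α β : Type*} (y : α → Module.Dual K M)
    (hy : ∀ φ : Module.Dual K M, φ ≠ 0 → ∃ i, ∃ r : K, r ≠ 0 ∧ y i = r • φ)
    (x : β → M) (hx : ∀ v : M, v ≠ 0 → ∃ i, ∃ r : K, r ≠ 0 ∧ x i = r • v) :
    rk (fun (i : α) (l : β) => σ (y i (x l)) ^ c) =
      ∏ t : Fin e, (Module.finrank K M + c / p ^ (t : ℕ) % p - 1).choose (c / p ^ (t : ℕ) % p) := by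
  have h1 := rk_pow_basis σ hK (Module.finBasis K M) (a := fun t => c / p ^ (t : ℕ) % p)
    (fun t => Nat.mod_lt _ hp.out.pos) (sum_digits hp.out.pos e c hc) hc0 y hy x hx
  rw [h1, Fintype.card_fin]

theorem le_choose {N a : ℕ} (hN : 0 < N) (ha : a ≠ 0) : N ≤ (N + a - 1).choose a := by
  obtain ⟨N, rfl⟩ : ∃ m, N = m + 1 := ⟨N - 1, by omega⟩
  have e1 : (N + 1 + a - 1).choose a = (N + a).choose N := by
    have : N + 1 + a - 1 = N + a := by omega
    rw [this, Nat.choose_symm_add]
  have h2 : (N + 1).choose N ≤ (N + a).choose N := Nat.choose_le_choose N (by omega)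
  rw [Nat.choose_succ_self_right] at h2
  rw [e1]
  exact h2

/-- the rank is at least `N ^ (number of nonzero digits)` -/
theorem pow_le_prod {N e : ℕ} (hN : 0 < N) (a : Fin e → ℕ) :
    N ^ (univ.filter fun t => a t ≠ 0).card ≤ ∏ t : Fin e, (N + a t - 1).choose (a t) := by
  classical
  rw [← Finset.prod_filter_mul_prod_filter_not univ (fun t => a t ≠ 0), ← Finset.prod_const]
  refine le_trans (Finset.prod_le_prod' fun t ht => le_choose hN (Finset.mem_filter.1 ht).2) ?_
  refine Nat.le_mul_of_pos_right _ (Finset.prod_pos fun t ht => ?_)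
  have h0 : a t = 0 := not_not.1 (Finset.mem_filter.1 ht).2
  rw [h0, Nat.choose_zero_right]
  exact one_pos

end main

end Cfsg.Agent.H353.Ker
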